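import Groth.Agent.ChevSp.Morph

/-!
# Relations which are quotients modulo a directed union of invariant ideals
-/

set_option backward.isDefEq.respectTransparency false
set_option backward.isDefEq.respectTransparency.types false

universe u

open CategoryTheory TensorProduct
open Groth.Agent.GrpdThick

namespace Groth.Agent.ChevSp

variable {D : Rel.{u}}

theorem map_map_quotientMap {A B : Type u} [CommRing A] [CommRing B] (f : A →+* B) (L M : Ideal A) :
    (M.map (Ideal.Quotient.mk L)).map (Ideal.quotientMap (L.map f) f Ideal.le_comap_map) =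
      (M.map f).map (Ideal.Quotient.mk (L.map f)) := by
  rw [Ideal.map_map, Ideal.map_map]
  rfl

theorem map_invariant {L M : Ideal D.A} (hL : L ≤ (L.map D.t).comap D.s) (hM : M ≤ (M.map D.t).comap D.s) :
    M.map (Ideal.Quotient.mk L) ≤ ((M.map (Ideal.Quotient.mk L)).map
      (Ideal.quotientMap (L.map D.t) D.t Ideal.le_comap_map)).comap (Ideal.quotientMap (L.map D.t) D.s hL) := by
  rw [Ideal.map_le_iff_le_comap, map_map_quotientMap]
  intro a ha
  exact Ideal.mem_map_of_mem (Ideal.Quotient.mk (L.map D.t)) (hM ha)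

/-- Restricting twice. -/
theorem isQuot_of_quot_quot {L M : Ideal D.A} (hL : L ≤ (L.map D.t).comap D.s) (hM : M ≤ (M.map D.t).comap D.s)
    (hLM : L ≤ M) (hQ : ((D.quot L hL).quot (M.map (Ideal.Quotient.mk L)) (map_invariant hL hM)).IsQuot) :
    (D.quot M hM).IsQuot := by
  let eA := DoubleQuot.quotQuotEquivQuotOfLE hLM
  have e := map_map_quotientMap D.t L M
  let eB := (Ideal.quotEquivOfEq e).trans (DoubleQuot.quotQuotEquivQuotOfLE (Ideal.map_mono hLM))
  refine isQuot_of_surjective _ _ hQ eA.toRingHom eB.toRingHom eA.surjective eB.surjective (fun a => ?_)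
    (fun a => ?_) fun b hb => ?_
  · obtain ⟨a, rfl⟩ := Ideal.Quotient.mk_surjective a
    obtain ⟨a, rfl⟩ := Ideal.Quotient.mk_surjective a
    rfl
  · obtain ⟨a, rfl⟩ := Ideal.Quotient.mk_surjective a
    obtain ⟨a, rfl⟩ := Ideal.Quotient.mk_surjective a
    rfl
  · rw [RingHom.mem_ker] at hb
    rw [show b = 0 from eB.injective (hb.trans (map_zero eB).symm)]
    exact zero_mem _

theorem exists_le_of_fg {R : Type*} [CommRing R] {σ : Type*} [Nonempty σ] {I : σ → Ideal R}
    (hdir : Directed (· ≤ ·) I) {L : Ideal R} (hL : L.FG) (h : L ≤ ⨆ j, I j) : ∃ j, L ≤ I j := by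
  classical
  obtain ⟨S, rfl⟩ := hL
  choose j hj using fun x : S => (Submodule.mem_iSup_of_directed I hdir).1 (h (Submodule.subset_span x.2))
  obtain ⟨k, hk⟩ := hdir.finset_le (S.attach.image j)
  refine ⟨k, Submodule.span_le.2 fun x hx => hk _ ?_ (hj ⟨x, hx⟩)⟩
  exact Finset.mem_image_of_mem _ (Finset.mem_attach _ _)

theorem exists_mem_map {A B : Type u} [CommRing A] [CommRing B] (t : A →+* B) {σ : Type*} [Nonempty σ]
    {I : σ → Ideal A} (hdir : Directed (· ≤ ·) I) {J : Ideal A} (hJ : J ≤ ⨆ j, I j) {x : B} (hx : x ∈ J.map t) :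
    ∃ j, x ∈ (I j).map t := by
  obtain ⟨L, hL, hLJ, hxL⟩ := exists_fg_mem_map t J hx
  obtain ⟨j, hj⟩ := exists_le_of_fg hdir hL (hLJ.trans hJ)
  exact ⟨j, Ideal.map_mono hj hxL⟩

/-- A surjective comparison map whose kernel lies in the extension of a directed union of invariant
ideals gives a quotient at some stage. -/
theorem exists_isQuot_of_model (hD : Good D) {σ : Type*} [Nonempty σ] (I : σ → Ideal D.A)
    (hI : ∀ j, I j ≤ ((I j).map D.t).comap D.s) (hdir : Directed (· ≤ ·) I) {R₀ R' : Type u} [CommRing R₀]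
    [CommRing R'] [Algebra R₀ R'] [Algebra.FinitePresentation R₀ R'] [Module.FaithfullyFlat R₀ R'] [Algebra R₀ D.A]
    (hf : ∀ c, D.t (algebraMap R₀ D.A c) = D.s (algebraMap R₀ D.A c)) (h : R' →ₐ[R₀] D.A)
    (θ : D.A ⊗[R₀] R' →+* D.B) (hθ : ∀ a y, θ (a ⊗ₜ y) = D.t a * D.s (h y)) (hsurj : Function.Surjective θ)
    (hker : RingHom.ker θ ≤ (⨆ j, I j).map (algebraMap D.A (D.A ⊗[R₀] R'))) :
    ∃ j, (D.quot (I j) (hI j)).IsQuot := by
  let : Algebra D.A D.B := D.t.toAlgebra
  have hθt : ∀ a, θ (a ⊗ₜ 1) = D.t a := fun a => by rw [hθ, map_one, map_one, mul_one]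
  let θA : D.A ⊗[R₀] R' →ₐ[D.A] D.B := { θ with commutes' := hθt }
  have : Algebra.FinitePresentation D.A D.B := hD.etale.finitePresentation
  have hfg : (RingHom.ker θ).FG := Algebra.FinitePresentation.ker_fG_of_surjective θA hsurj
  rw [Ideal.map_iSup] at hker
  obtain ⟨j, hj⟩ := exists_le_of_fg (fun i k => (hdir i k).imp fun l h => ⟨Ideal.map_mono h.1, Ideal.map_mono h.2⟩) hfg hker
  refine ⟨j, ?_⟩
  let L := I j
  let q : D.A →+* D.A ⧸ L := Ideal.Quotient.mk L
  let fL : R₀ →+* D.A ⧸ L := q.comp (algebraMap R₀ D.A)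
  refine isQuot_of_model (D.quot L (hI j)) (R₀ := R₀) (R' := R') fL
    (fun c => congrArg (Ideal.Quotient.mk (L.map D.t)) (hf c)) (q.comp h.toRingHom)
    (fun c => congrArg q (h.commutes c)) ?_
  let D₂ := D.quot L (hI j)
  let : Algebra R₀ D₂.A := fL.toAlgebra
  let : Algebra D₂.A D₂.B := D₂.t.toAlgebra
  let : Algebra R₀ D₂.B := (D₂.t.comp fL).toAlgebra
  have : IsScalarTower R₀ D₂.A D₂.B := IsScalarTower.of_algebraMap_eq fun _ => rfl
  let sR : R' →ₐ[R₀] D₂.B :=
    { D₂.s.comp (q.comp h.toRingHom) with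
      commutes' := fun c => congrArg (Ideal.Quotient.mk (L.map D.t))
        ((congrArg D.s (h.commutes c)).trans (hf c).symm) }
  let Θ : D₂.A ⊗[R₀] R' →ₐ[D₂.A] D₂.B :=
    Algebra.TensorProduct.lift (Algebra.ofId _ _) sR fun _ _ => .all _ _
  let qA : D.A →ₐ[R₀] D₂.A := { q with commutes' := fun _ => rfl }
  let π := Algebra.TensorProduct.map qA (AlgHom.id R₀ R')
  have hdia : ∀ z, Θ (π z) = Ideal.Quotient.mk (L.map D.t) (θ z) := fun z => by
    induction z using TensorProduct.induction_on with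
    | zero => simp
    | tmul a y => rw [hθ, map_mul]; rfl
    | add x y hx hy => simp only [map_add, hx, hy]
  have hπ : Function.Surjective π :=
    Algebra.TensorProduct.map_surjective _ _ Ideal.Quotient.mk_surjective fun y => ⟨y, rfl⟩
  refine ⟨Θ.toRingHom, fun a y => rfl, (injective_iff_map_eq_zero Θ).2 fun w hw => ?_, fun b => ?_⟩
  · obtain ⟨w, rfl⟩ := hπ w
    rw [hdia, Ideal.Quotient.eq_zero_iff_mem] at hw
    have hle : L.map D.t ≤ (L.map (algebraMap D.A (D.A ⊗[R₀] R'))).map θ := by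
      rw [Ideal.map_map, Ideal.map_le_iff_le_comap]
      intro a ha
      show D.t a ∈ L.map (θ.comp _)
      rw [show D.t a = θ.comp (algebraMap D.A (D.A ⊗[R₀] R')) a from (θA.commutes a).symm]
      exact Ideal.mem_map_of_mem _ ha
    obtain ⟨v, hv, hve⟩ := (Ideal.mem_map_iff_of_surjective θ hsurj).1 (hle hw)
    have hwv : w - v ∈ L.map (algebraMap D.A (D.A ⊗[R₀] R')) :=
      hj (RingHom.mem_ker.2 (by rw [map_sub, hve, sub_self]))
    have hzero : L.map (algebraMap D.A (D.A ⊗[R₀] R')) ≤ RingHom.ker π.toRingHom := by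
      rw [Ideal.map_le_iff_le_comap]
      intro a ha
      show π (a ⊗ₜ 1) = 0
      rw [Algebra.TensorProduct.map_tmul, show qA a = 0 from Ideal.Quotient.eq_zero_iff_mem.2 ha,
        TensorProduct.zero_tmul]
    have := add_mem (hzero hwv) (hzero hv)
    rwa [sub_add_cancel] at this
  · obtain ⟨b, rfl⟩ := Ideal.Quotient.mk_surjective b
    obtain ⟨z, rfl⟩ := hsurj b
    exact ⟨π z, hdia z⟩

set_option maxHeartbeats 2000000 in
/-- A relation which is a quotient modulo a directed union of invariant ideals is one modulo one of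
them. -/
theorem exists_isQuot_of_directed (hD : Good D) {σ : Type*} [Nonempty σ] (I : σ → Ideal D.A)
    (hI : ∀ j, I j ≤ ((I j).map D.t).comap D.s) (hdir : Directed (· ≤ ·) I) (J : Ideal D.A)
    (hJ : J ≤ (J.map D.t).comap D.s) (hle : ∀ j, I j ≤ J) (hsup : J ≤ ⨆ j, I j) (hQ : (D.quot J hJ).IsQuot) :
    ∃ j, (D.quot (I j) (hI j)).IsQuot := by
  classical
  let A' := D.A ⧸ J
  let tb : A' →+* D.B ⧸ J.map D.t := Ideal.quotientMap (J.map D.t) D.t Ideal.le_comap_map
  let sb : A' →+* D.B ⧸ J.map D.t := Ideal.quotientMap (J.map D.t) D.s hJ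
  let K : Subring A' := sb.eqLocus tb
  obtain ⟨hff, e₀, he₀⟩ : Module.FaithfullyFlat K A' ∧
      ∃ e : A' ⊗[K] A' ≃+* D.B ⧸ J.map D.t, ∀ x y, e (x ⊗ₜ y) = tb x * sb y :=
    exists_equiv_of_isQuot (D.quot J hJ) hQ
  have hKe : K.subtype.Etale := etale_subtype_of_isQuot (hD.quot J hJ).etale hQ
  have : Algebra.Etale K A' := RingHom.etale_algebraMap.1 hKe
  obtain ⟨S₀, R', _, _, hS₀, _, _, ⟨e⟩⟩ := exists_etale_ff_model (A₀ := K) (A' := A')
  have : Algebra.FiniteType ℤ S₀ := (Subalgebra.fg_iff_finiteType S₀).1 hS₀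
  have : IsNoetherianRing S₀ := Algebra.FiniteType.isNoetherianRing ℤ S₀
  let h : R' →+* A' := e.symm.toRingEquiv.toRingHom.comp
    (Algebra.TensorProduct.includeRight : R' →ₐ[S₀] K ⊗[S₀] R').toRingHom
  have hesymm : ∀ (c : K) (r : R'), e.symm (c ⊗ₜ r) = (c : A') * h r := fun c r => by
    show _ = (c : A') * e.symm ((1 : K) ⊗ₜ r)
    rw [show c ⊗ₜ[S₀] r = c • ((1 : K) ⊗ₜ[S₀] r) by rw [TensorProduct.smul_tmul', smul_eq_mul, mul_one],
      map_smul, Algebra.smul_def]
    rfl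
  have hcomp : ∀ c : S₀, h (algebraMap S₀ R' c) = ((c : K) : A') := fun c => by
    show e.symm ((1 : K) ⊗ₜ[S₀] algebraMap S₀ R' c) = _
    rw [show (1 : K) ⊗ₜ[S₀] algebraMap S₀ R' c = algebraMap K _ (c : K) by
      rw [Algebra.TensorProduct.algebraMap_apply, Algebra.algebraMap_self, RingHom.id_apply,
        Algebra.algebraMap_eq_smul_one (A := R') c, TensorProduct.tmul_smul, TensorProduct.smul_tmul',
        Algebra.smul_def, mul_one]
      rfl, AlgEquiv.commutes]
    rfl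
  have heq : ∀ c : K, tb c = sb c := fun c => c.2.symm
  -- finitely many relations
  have : Algebra.FinitePresentation ℤ S₀ := Algebra.FinitePresentation.of_finiteType.1 inferInstance
  have : Algebra.FinitePresentation ℤ R' := Algebra.FinitePresentation.trans ℤ S₀ R'
  obtain ⟨n, f, hfsurj, hker⟩ := Algebra.FinitePresentation.out (R := ℤ) (A := R')
  choose a ha using fun i : Fin n => Ideal.Quotient.mk_surjective (h (f (MvPolynomial.X i)))
  let ξ : MvPolynomial (Fin n) ℤ →+* D.A := MvPolynomial.eval₂Hom (Int.castRingHom D.A) a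
  have hξ : ∀ P, Ideal.Quotient.mk J (ξ P) = h (f P) := by
    have : (Ideal.Quotient.mk J).comp ξ = h.comp f.toRingHom :=
      MvPolynomial.ringHom_ext (fun c => by simp) (fun i => by simp [ξ, ha]; rfl)
    exact fun P => RingHom.congr_fun this P
  obtain ⟨G, hG⟩ := hS₀
  choose P hP using fun c : S₀ => hfsurj (algebraMap S₀ R' c)
  have hδ : ∀ c : S₀, D.t (ξ (P c)) - D.s (ξ (P c)) ∈ J.map D.t := fun c => by
    rw [← Ideal.Quotient.eq]
    show tb (Ideal.Quotient.mk J (ξ (P c))) = sb (Ideal.Quotient.mk J (ξ (P c)))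
    rw [hξ, hP, hcomp, heq]
  choose Ic hIc hIcJ hIcmem using fun c : S₀ => exists_fg_mem_map D.t J (hδ c)
  have hGS : ∀ c ∈ G, c ∈ S₀ := fun c hc => hG ▸ Algebra.subset_adjoin hc
  let L₀ := (RingHom.ker f).map ξ ⊔ G.attach.sup fun c => Ic ⟨c.1, hGS c.1 c.2⟩
  have hL₀J : L₀ ≤ J := by
    refine sup_le (Ideal.map_le_iff_le_comap.2 fun P hP => ?_) (Finset.sup_le fun c _ => hIcJ _)
    rw [Ideal.mem_comap, ← Ideal.Quotient.eq_zero_iff_mem, hξ, show f P = 0 from hP, map_zero]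
  have hL₀fg : L₀.FG := Submodule.FG.sup (Ideal.FG.map hker ξ) (Submodule.fg_finset_sup _ _ fun c _ => hIc _)
  -- generators of the arrows
  have hgenB : ∀ b : D.B, ∃ x ∈ AddSubmonoid.closure {x | ∃ c Q, x = D.t c * D.s (ξ Q)}, b - x ∈ J.map D.t := by
    let T := AddSubmonoid.closure {x | ∃ c Q, x = D.t c * D.s (ξ Q)}
    have hmul : ∀ x ∈ T, ∀ c, D.t c * x ∈ T := fun x hx c => by
      induction hx using AddSubmonoid.closure_induction with
      | mem x hx =>
        obtain ⟨c', Q, rfl⟩ := hx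
        exact AddSubmonoid.subset_closure ⟨c * c', Q, by rw [map_mul, mul_assoc]⟩
      | zero => rw [mul_zero]; exact zero_mem _
      | add x y _ _ hx hy => rw [mul_add]; exact add_mem hx hy
    have key : ∀ y : K ⊗[S₀] R', ∃ x ∈ T, sb (e.symm y) = Ideal.Quotient.mk _ x := fun y => by
      induction y using TensorProduct.induction_on with
      | zero => exact ⟨0, zero_mem _, by simp⟩
      | tmul c r =>
        obtain ⟨c', hc'⟩ := Ideal.Quotient.mk_surjective (c : A')
        obtain ⟨Q, rfl⟩ := hfsurj r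
        refine ⟨D.t c' * D.s (ξ Q), AddSubmonoid.subset_closure ⟨c', Q, rfl⟩, ?_⟩
        rw [hesymm, map_mul, ← heq, ← hc', ← hξ, map_mul]
        rfl
      | add y z hy hz =>
        obtain ⟨x, hx, hxe⟩ := hy
        obtain ⟨x', hx', hxe'⟩ := hz
        exact ⟨x + x', add_mem hx hx', by rw [map_add, map_add, hxe, hxe', map_add]⟩
    intro b
    suffices ∀ z, ∃ x ∈ T, e₀ z = Ideal.Quotient.mk _ x by
      obtain ⟨x, hx, hxe⟩ := this (e₀.symm (Ideal.Quotient.mk _ b))
      rw [e₀.apply_symm_apply, Ideal.Quotient.eq] at hxe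
      exact ⟨x, hx, hxe⟩
    intro z
    induction z using TensorProduct.induction_on with
    | zero => exact ⟨0, zero_mem _, by simp⟩
    | tmul x y =>
      obtain ⟨c, rfl⟩ := Ideal.Quotient.mk_surjective x
      obtain ⟨w, hw, hwe⟩ := key (e y)
      rw [e.symm_apply_apply] at hwe
      refine ⟨D.t c * w, hmul w hw c, ?_⟩
      rw [he₀, hwe, map_mul]
      rfl
    | add y z hy hz =>
      obtain ⟨x, hx, hxe⟩ := hy
      obtain ⟨x', hx', hxe'⟩ := hz
      exact ⟨x + x', add_mem hx hx', by rw [map_add, hxe, hxe', map_add]⟩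
  let : Algebra D.A D.B := D.t.toAlgebra
  have : Algebra.FinitePresentation D.A D.B := hD.etale.finitePresentation
  obtain ⟨Gb, hGb⟩ : (⊤ : Subalgebra D.A D.B).FG := Algebra.FiniteType.out
  choose xb hxb hxbJ using hgenB
  choose jb hjb using fun b : Gb => exists_mem_map D.t hdir hsup (hxbJ b.1)
  obtain ⟨jL, hjL⟩ := exists_le_of_fg hdir hL₀fg (hL₀J.trans hsup)
  obtain ⟨j₁, hj₁⟩ := hdir.finset_le (insert jL (Gb.attach.image jb))
  have hL₁ : L₀ ≤ I j₁ := hjL.trans (hj₁ _ (Finset.mem_insert_self _ _))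
  let L := I j₁
  let D' := D.quot L (hI j₁)
  let hL : R' →+* D.A ⧸ L := RingHom.liftOfSurjective f.toRingHom hfsurj ⟨(Ideal.Quotient.mk L).comp ξ, fun P hP =>
    Ideal.Quotient.eq_zero_iff_mem.2 (hL₁ (Ideal.mem_sup_left (Ideal.mem_map_of_mem ξ hP)))⟩
  have hhL : ∀ P, hL (f P) = Ideal.Quotient.mk L (ξ P) := fun P =>
    RingHom.liftOfRightInverse_comp_apply _ _ (Function.rightInverse_surjInv hfsurj)
      ⟨(Ideal.Quotient.mk L).comp ξ, fun P hP =>
        Ideal.Quotient.eq_zero_iff_mem.2 (hL₁ (Ideal.mem_sup_left (Ideal.mem_map_of_mem ξ hP)))⟩ P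
  let fL : S₀ →+* D.A ⧸ L := hL.comp (algebraMap S₀ R')
  let tq : D.A ⧸ L →+* D.B ⧸ L.map D.t := Ideal.quotientMap _ D.t Ideal.le_comap_map
  let sq : D.A ⧸ L →+* D.B ⧸ L.map D.t := Ideal.quotientMap _ D.s (hI j₁)
  have hfL : ∀ c : S₀, tq (fL c) = sq (fL c) := by
    rintro ⟨c, hc⟩
    have hc' : c ∈ Algebra.adjoin ℤ (G : Set K) := hG.symm ▸ hc
    induction hc' using Algebra.adjoin_induction with
    | mem x hx =>
      show tq (hL (algebraMap S₀ R' ⟨x, hc⟩)) = sq (hL (algebraMap S₀ R' ⟨x, hc⟩))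
      rw [← hP ⟨x, hc⟩, hhL]
      show Ideal.Quotient.mk (L.map D.t) (D.t _) = Ideal.Quotient.mk (L.map D.t) (D.s _)
      rw [Ideal.Quotient.eq]
      exact Ideal.map_mono ((Finset.le_sup (f := fun c : G => Ic ⟨c.1, hGS c.1 c.2⟩)
        (Finset.mem_attach _ ⟨x, hx⟩)).trans (le_sup_right.trans hL₁)) (hIcmem ⟨x, hc⟩)
    | algebraMap r =>
      have : (⟨algebraMap ℤ K r, hc⟩ : S₀) = (r : S₀) := Subtype.ext (by simp)
      rw [this, map_intCast, map_intCast, map_intCast]
    | add x y hx hy hx' hy' =>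
      have : (⟨x + y, hc⟩ : S₀) = ⟨x, hG ▸ hx⟩ + ⟨y, hG ▸ hy⟩ := rfl
      rw [this, map_add, map_add, map_add, hx', hy']
    | mul x y hx hy hx' hy' =>
      have : (⟨x * y, hc⟩ : S₀) = ⟨x, hG ▸ hx⟩ * ⟨y, hG ▸ hy⟩ := rfl
      rw [this, map_mul, map_mul, map_mul, hx', hy']
  let : Algebra S₀ (D.A ⧸ L) := fL.toAlgebra
  let : Algebra (D.A ⧸ L) (D.B ⧸ L.map D.t) := tq.toAlgebra
  let : Algebra S₀ (D.B ⧸ L.map D.t) := (tq.comp fL).toAlgebra
  have : IsScalarTower S₀ (D.A ⧸ L) (D.B ⧸ L.map D.t) := IsScalarTower.of_algebraMap_eq fun _ => rfl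
  let sR : R' →ₐ[S₀] D.B ⧸ L.map D.t := { sq.comp hL with commutes' := fun c => (hfL c).symm }
  let θ : (D.A ⧸ L) ⊗[S₀] R' →ₐ[D.A ⧸ L] D.B ⧸ L.map D.t :=
    Algebra.TensorProduct.lift (Algebra.ofId _ _) sR fun _ _ => .all _ _
  have hθ : ∀ x y, θ (x ⊗ₜ y) = tq x * sq (hL y) := fun x y => rfl
  have hsurj : Function.Surjective θ := by
    intro b
    obtain ⟨b, rfl⟩ := Ideal.Quotient.mk_surjective b
    have hmem : b ∈ Algebra.adjoin D.A (Gb : Set D.B) := hGb.symm ▸ Algebra.mem_top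
    show Ideal.Quotient.mk (L.map D.t) b ∈ θ.range
    induction hmem using Algebra.adjoin_induction with
    | mem x hx =>
      have hxL : x - xb x ∈ L.map D.t := Ideal.map_mono
        (hj₁ _ (Finset.mem_insert_of_mem (Finset.mem_image_of_mem jb (Finset.mem_attach _ ⟨x, hx⟩)))) (hjb ⟨x, hx⟩)
      rw [Ideal.Quotient.eq.2 hxL]
      clear hxL
      have hcl := hxb x
      generalize xb x = v at hcl
      induction hcl using AddSubmonoid.closure_induction with
      | mem v hv =>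
        obtain ⟨c, Q, rfl⟩ := hv
        refine ⟨Ideal.Quotient.mk L c ⊗ₜ f Q, ?_⟩
        show θ _ = _
        rw [hθ, hhL, map_mul]
        rfl
      | zero => rw [map_zero]; exact zero_mem _
      | add v w _ _ hv hw => rw [map_add]; exact add_mem hv hw
    | algebraMap c => exact ⟨algebraMap _ _ (Ideal.Quotient.mk L c), θ.commutes _⟩
    | add x y _ _ hx hy => rw [map_add]; exact add_mem hx hy
    | mul x y _ _ hx hy => rw [map_mul]; exact mul_mem hx hy
  -- the kernel
  let qA : D.A ⧸ L →+* A' := Ideal.Quotient.factor (hle j₁)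
  let qB : D.B ⧸ L.map D.t →+* D.B ⧸ J.map D.t := Ideal.Quotient.factor (Ideal.map_mono (hle j₁))
  let : Algebra S₀ A' := (K.subtype.comp S₀.val.toRingHom).toAlgebra
  have : IsScalarTower S₀ K A' := IsScalarTower.of_algebraMap_eq fun _ => rfl
  have hqh : ∀ r, qA (hL r) = h r := fun r => by
    obtain ⟨P, rfl⟩ := hfsurj r
    rw [hhL, ← hξ]
    rfl
  let qA' : D.A ⧸ L →ₐ[S₀] A' :=
    { qA with commutes' := fun c => (hqh (algebraMap S₀ R' c)).trans (hcomp c) }
  let E : A' ⊗[S₀] R' ≃+* A' ⊗[K] A' :=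
    ((Algebra.TensorProduct.cancelBaseChange S₀ K A' A' R').symm.trans
      (Algebra.TensorProduct.congr AlgEquiv.refl e.symm)).toRingEquiv
  have hE : ∀ x r, e₀ (E (x ⊗ₜ r)) = tb x * sb (h r) := fun x r => by
    have : E (x ⊗ₜ[S₀] r) = x ⊗ₜ[K] e.symm ((1 : K) ⊗ₜ[S₀] r) := by
      simp only [E, AlgEquiv.coe_ringEquiv, AlgEquiv.trans_apply,
        Algebra.TensorProduct.cancelBaseChange_symm_tmul, Algebra.TensorProduct.congr_apply,
        Algebra.TensorProduct.map_tmul]
      rfl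
    rw [this, he₀]
    rfl
  have hdia : ∀ z, qB (θ z) = e₀ (E (Algebra.TensorProduct.map qA' (AlgHom.id S₀ R') z)) := fun z => by
    induction z using TensorProduct.induction_on with
    | zero => simp
    | tmul x y =>
      rw [hθ, map_mul, Algebra.TensorProduct.map_tmul, hE]
      obtain ⟨x, rfl⟩ := Ideal.Quotient.mk_surjective x
      obtain ⟨y', hy'⟩ := Ideal.Quotient.mk_surjective (hL y)
      show qB (tq _) * qB (sq (hL y)) = tb (qA _) * sb (h y)
      rw [← hqh, ← hy']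
      rfl
    | add z w hz hw => simp only [map_add, hz, hw]
  let σ' := {k : σ // L ≤ I k}
  have : Nonempty σ' := ⟨⟨j₁, le_rfl⟩⟩
  let I' : σ' → Ideal (D.A ⧸ L) := fun k => (I k.1).map (Ideal.Quotient.mk L)
  have hdir' : Directed (· ≤ ·) I' := fun k k' => by
    obtain ⟨l, hl, hl'⟩ := hdir k.1 k'.1
    exact ⟨⟨l, k.2.trans hl⟩, Ideal.map_mono hl, Ideal.map_mono hl'⟩
  have hJ' : J.map (Ideal.Quotient.mk L) ≤ ⨆ k, I' k := by
    refine (Ideal.map_mono hsup).trans ?_
    rw [Ideal.map_iSup]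
    refine iSup_le fun k => ?_
    obtain ⟨l, hl, hl'⟩ := hdir k j₁
    exact (Ideal.map_mono hl).trans (le_iSup I' ⟨l, hl'⟩)
  let : Algebra S₀ D'.A := fL.toAlgebra
  let hLa : R' →ₐ[S₀] D'.A := { hL with commutes' := fun _ => rfl }
  obtain ⟨k, hk⟩ := exists_isQuot_of_model (D := D') (hD.quot L (hI j₁)) I'
    (fun k => map_invariant (hI j₁) (hI k.1)) hdir' (R₀ := S₀) (R' := R') hfL
    hLa θ.toRingHom hθ hsurj (fun w hw => by
      rw [RingHom.mem_ker] at hw
      have h0 : Algebra.TensorProduct.map qA' (AlgHom.id S₀ R') w = 0 := by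
        apply E.injective
        apply e₀.injective
        rw [← hdia, show θ w = 0 from hw, map_zero, map_zero, map_zero]
      have hk := (Algebra.TensorProduct.rTensor_ker (C := R') qA' (fun x => by
        obtain ⟨x, rfl⟩ := Ideal.Quotient.mk_surjective x
        exact ⟨Ideal.Quotient.mk L x, rfl⟩)).le (RingHom.mem_ker.2 h0)
      have hle' : RingHom.ker qA' ≤ ⨆ k, I' k := fun x hx => by
        obtain ⟨x, rfl⟩ := Ideal.Quotient.mk_surjective x
        exact hJ' (Ideal.mem_map_of_mem _ (Ideal.Quotient.eq_zero_iff_mem.1 hx))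
      exact Ideal.map_mono hle' hk)
  exact ⟨k.1, isQuot_of_quot_quot (hI j₁) (hI k.1) k.2 hk⟩

end Groth.Agent.ChevSp
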