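import Groth.Agent.ChevSp.Min
import Groth.Agent.ChevSp.Lim
import Mathlib.Order.Zorn

/-!
# A relation with an integral surjective cover which is a quotient is a quotient
-/

set_option backward.isDefEq.respectTransparency false
set_option backward.isDefEq.respectTransparency.types false

universe u

open CategoryTheory TensorProduct
open Groth.Agent.GrpdThick

namespace Groth.Agent.ChevSp

variable {D : Rel.{u}}

/-- The finite case. -/
theorem isQuot_of_finite (hD : Good D) (σ : Type u) (J : Ideal (MvPolynomial σ D.A)) (hJ : InvI (poly D σ) J)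
    (hfin : ((Ideal.Quotient.mk J).comp (MvPolynomial.C (σ := σ))).Finite)
    (hsurj : Function.Surjective (PrimeSpectrum.comap ((Ideal.Quotient.mk J).comp (MvPolynomial.C (σ := σ)))))
    (hQ : ((poly D σ).quot J hJ).IsQuot) : D.IsQuot := by
  by_contra hnot
  obtain ⟨I₀, ⟨hI₀, hbad⟩, hmax⟩ : ∃ I₀, Maximal (· ∈ {I : Ideal D.A | ∃ h : InvI D I, ¬ (D.quot I h).IsQuot}) I₀ := by
    refine zorn_le₀ _ fun C hC hchain => ?_
    by_cases hne : C.Nonempty
    · refine ⟨sSup C, ?_, fun I hI => le_sSup hI⟩
      have : Nonempty C := hne.to_subtype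
      choose hinv hb using fun I : C => hC I.2
      have hJ' : InvI D (⨆ I : C, (I : Ideal D.A)) := iSup_le fun I => (hinv I).trans <|
        Ideal.comap_mono <| Ideal.map_mono <| le_iSup (fun I : C => (I : Ideal D.A)) I
      rw [sSup_eq_iSup']
      refine ⟨hJ', fun hq => ?_⟩
      obtain ⟨I, hI⟩ := exists_isQuot_of_directed hD (fun I : C => (I : Ideal D.A)) hinv
        (hchain.directedOn.directed_val) _ hJ' (fun I => le_iSup (fun I : C => (I : Ideal D.A)) I) le_rfl hq
      exact hb I hI
    · exact ⟨⊥, ⟨invI_bot, fun h => hnot (isQuot_of_quot_bot _ h)⟩, fun I hI => absurd ⟨I, hI⟩ hne⟩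
  apply hbad
  let q : D.A →+* D.A ⧸ I₀ := Ideal.Quotient.mk I₀
  let qB : D.B →+* D.B ⧸ I₀.map D.t := Ideal.Quotient.mk _
  let D' := D.quot I₀ hI₀
  let t' : D.A ⧸ I₀ →+* D.B ⧸ I₀.map D.t := Ideal.quotientMap _ D.t Ideal.le_comap_map
  let s' : D.A ⧸ I₀ →+* D.B ⧸ I₀.map D.t := Ideal.quotientMap _ D.s hI₀
  let π : MvPolynomial σ D.A →+* MvPolynomial σ (D.A ⧸ I₀) := MvPolynomial.map q
  let πB : MvPolynomial σ D.B →+* MvPolynomial σ (D.B ⧸ I₀.map D.t) := MvPolynomial.map qB
  have hπt : ∀ p, πB (MvPolynomial.map D.t p) = MvPolynomial.map t' (π p) := fun p => by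
    simp only [π, πB, MvPolynomial.map_map]
    rfl
  have hπs : ∀ p, πB (MvPolynomial.map D.s p) = MvPolynomial.map s' (π p) := fun p => by
    simp only [π, πB, MvPolynomial.map_map]
    rfl
  have hπsurj : Function.Surjective π := MvPolynomial.map_surjective _ Ideal.Quotient.mk_surjective
  let J' : Ideal (MvPolynomial σ (D.A ⧸ I₀)) := J.map π
  have hJmap : J'.map (MvPolynomial.map t') = (J.map (MvPolynomial.map D.t)).map πB := by
    rw [Ideal.map_map, Ideal.map_map]
    congr 1
    exact RingHom.ext fun p => (hπt p).symm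
  have hJ' : InvI (poly D' σ) J' := by
    intro p' hp'
    obtain ⟨p, hp, rfl⟩ := (Ideal.mem_map_iff_of_surjective π hπsurj).1 hp'
    show MvPolynomial.map s' (π p) ∈ J'.map (MvPolynomial.map t')
    rw [← hπs, hJmap]
    exact Ideal.mem_map_of_mem _ (hJ hp)
  refine isQuot_of_min (D := D') (hD.quot I₀ hI₀) σ J' hJ' ?_ ?_ ?_ fun I hI hI0 => ?_
  · refine RingHom.Finite.of_comp_finite (f := q) ?_
    have e : ((Ideal.Quotient.mk J').comp (MvPolynomial.C (R := D.A ⧸ I₀) (σ := σ))).comp q =
        (Ideal.quotientMap J' π Ideal.le_comap_map).comp ((Ideal.Quotient.mk J).comp MvPolynomial.C) :=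
      RingHom.ext fun a => (congrArg (Ideal.Quotient.mk J') (MvPolynomial.map_C q a)).symm
    erw [e]
    refine RingHom.Finite.comp (RingHom.Finite.of_surjective _ fun y => ?_) hfin
    obtain ⟨y, rfl⟩ := Ideal.Quotient.mk_surjective y
    obtain ⟨y, rfl⟩ := hπsurj y
    exact ⟨Ideal.Quotient.mk J y, rfl⟩
  · intro p
    obtain ⟨P, hP⟩ := hsurj (PrimeSpectrum.comap q p)
    let P₀ : Ideal (MvPolynomial σ D.A) := P.asIdeal.comap (Ideal.Quotient.mk J)
    have hCP : ∀ a, MvPolynomial.C a ∈ P₀ ↔ q a ∈ p.asIdeal := fun a => by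
      have := congrArg (fun x => a ∈ PrimeSpectrum.asIdeal x) hP
      exact Iff.of_eq this
    have hker : RingHom.ker π ≤ P₀ := by
      rw [show RingHom.ker π = (RingHom.ker q).map MvPolynomial.C from MvPolynomial.ker_map q, Ideal.map_le_iff_le_comap]
      intro a ha
      rw [Ideal.mem_comap, hCP, show q a = 0 from ha]
      exact zero_mem _
    have : P₀.IsPrime := Ideal.IsPrime.comap _
    have hJP : J ≤ P₀ := fun x hx => by
      show Ideal.Quotient.mk J x ∈ P.asIdeal
      rw [Ideal.Quotient.eq_zero_iff_mem.2 hx]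
      exact zero_mem _
    let P₁ : Ideal (MvPolynomial σ (D.A ⧸ I₀)) := P₀.map π
    have hP₁ : P₁.IsPrime := Ideal.map_isPrime_of_surjective hπsurj hker
    have hJ'P : RingHom.ker (Ideal.Quotient.mk J') ≤ P₁ := by
      rw [Ideal.mk_ker]
      exact Ideal.map_mono hJP
    refine ⟨⟨P₁.map (Ideal.Quotient.mk J'), Ideal.map_isPrime_of_surjective Ideal.Quotient.mk_surjective hJ'P⟩, ?_⟩
    refine PrimeSpectrum.ext (Ideal.ext fun a => ?_)
    obtain ⟨a, rfl⟩ := Ideal.Quotient.mk_surjective a
    show Ideal.Quotient.mk J' (MvPolynomial.C (q a)) ∈ P₁.map (Ideal.Quotient.mk J') ↔ q a ∈ p.asIdeal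
    rw [← Ideal.mem_comap, Ideal.comap_map_of_surjective _ Ideal.Quotient.mk_surjective, ← RingHom.ker_eq_comap_bot,
      sup_eq_left.2 hJ'P, ← MvPolynomial.map_C q, ← Ideal.mem_comap, Ideal.comap_map_of_surjective _ hπsurj,
      ← RingHom.ker_eq_comap_bot, sup_eq_left.2 hker, hCP]
  · refine isQuot_of_surjective _ _ hQ (Ideal.quotientMap J' π Ideal.le_comap_map)
      (Ideal.quotientMap (J'.map (MvPolynomial.map t')) πB (by rw [hJmap]; exact Ideal.le_comap_map)) ?_ ?_
      (fun a => ?_) (fun a => ?_) ?_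
    · intro y
      obtain ⟨y, rfl⟩ := Ideal.Quotient.mk_surjective y
      obtain ⟨y, rfl⟩ := hπsurj y
      exact ⟨Ideal.Quotient.mk J y, rfl⟩
    · intro y
      obtain ⟨y, rfl⟩ := Ideal.Quotient.mk_surjective y
      obtain ⟨y, rfl⟩ := MvPolynomial.map_surjective (σ := σ) qB Ideal.Quotient.mk_surjective y
      exact ⟨Ideal.Quotient.mk _ y, rfl⟩
    · obtain ⟨a, rfl⟩ := Ideal.Quotient.mk_surjective a
      exact congrArg (Ideal.Quotient.mk _) (hπt a)
    · obtain ⟨a, rfl⟩ := Ideal.Quotient.mk_surjective a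
      exact congrArg (Ideal.Quotient.mk _) (hπs a)
    · intro b hb
      obtain ⟨b, rfl⟩ := Ideal.Quotient.mk_surjective b
      have h1 : πB b ∈ (J.map (MvPolynomial.map D.t)).map πB := by
        rw [← hJmap]
        exact Ideal.Quotient.eq_zero_iff_mem.1 hb
      obtain ⟨j, hj, hjb⟩ := (Ideal.mem_map_iff_of_surjective πB
        (MvPolynomial.map_surjective _ Ideal.Quotient.mk_surjective)).1 h1
      have h2 : b - j ∈ (RingHom.ker q).map ((MvPolynomial.map D.t).comp MvPolynomial.C) := by
        have e : (MvPolynomial.map D.t).comp MvPolynomial.C = (MvPolynomial.C (σ := σ)).comp D.t :=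
          RingHom.ext fun a => MvPolynomial.map_C _ _
        rw [e, ← Ideal.map_map, Ideal.mk_ker, ← Ideal.mk_ker (I := I₀.map D.t), ← MvPolynomial.ker_map,
          RingHom.mem_ker, map_sub, hjb]
        exact sub_self _
      rw [show (Ideal.Quotient.mk (J.map (MvPolynomial.map D.t))) b = Ideal.Quotient.mk _ (b - j) from
        (Ideal.Quotient.eq.2 (by simpa using neg_mem hj)).symm]
      rw [← Ideal.map_map] at h2
      have h3 : ((RingHom.ker q).map (MvPolynomial.C (σ := σ))).map (Ideal.Quotient.mk J) ≤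
          RingHom.ker (Ideal.quotientMap J' π Ideal.le_comap_map) := by
        rw [Ideal.map_le_iff_le_comap, Ideal.map_le_iff_le_comap]
        intro a ha
        show Ideal.Quotient.mk J' (π (MvPolynomial.C a)) = 0
        rw [MvPolynomial.map_C, show q a = 0 from ha, map_zero, map_zero]
      refine Ideal.map_mono h3 ?_
      have h4 := Ideal.mem_map_of_mem (Ideal.Quotient.mk (J.map (MvPolynomial.map D.t))) h2
      rw [Ideal.map_map] at h4 ⊢
      exact h4
  · -- a nonzero invariant ideal of the maximal bad quotient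
    let I' : Ideal D.A := I.comap q
    have hle : I₀ ≤ I' := fun a ha => by
      show q a ∈ I
      rw [Ideal.Quotient.eq_zero_iff_mem.2 ha]
      exact zero_mem _
    have e1 : I'.map q = I := Ideal.map_comap_of_surjective _ Ideal.Quotient.mk_surjective _
    have hmapI : I.map t' = (I'.map D.t).map qB := by
      rw [← map_map_quotientMap D.t I₀ I', e1]
    have hI'inv : InvI D I' := fun a ha => by
      have h1 : qB (D.s a) ∈ (I'.map D.t).map qB := by
        rw [← hmapI]
        exact hI ha
      rwa [← Ideal.mem_comap, Ideal.comap_map_of_surjective _ Ideal.Quotient.mk_surjective,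
        ← RingHom.ker_eq_comap_bot, Ideal.mk_ker, sup_eq_left.2 (Ideal.map_mono hle)] at h1
    have hQ' : (D.quot I' hI'inv).IsQuot := by
      by_contra h
      have : I' ≤ I₀ := hmax ⟨hI'inv, h⟩ hle
      apply hI0
      rw [← e1, eq_bot_iff, Ideal.map_le_iff_le_comap]
      intro a ha
      exact (Ideal.mem_bot).2 (Ideal.Quotient.eq_zero_iff_mem.2 (this ha))
    refine isQuot_of_surjective _ _ hQ' (Ideal.quotientMap I q le_rfl)
      (Ideal.quotientMap (I.map t') qB (by rw [hmapI]; exact Ideal.le_comap_map)) ?_ ?_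
      (fun a => ?_) (fun a => ?_) ?_
    · intro y
      obtain ⟨y, rfl⟩ := Ideal.Quotient.mk_surjective y
      obtain ⟨y, rfl⟩ := Ideal.Quotient.mk_surjective y
      exact ⟨Ideal.Quotient.mk _ y, rfl⟩
    · intro y
      obtain ⟨y, rfl⟩ := Ideal.Quotient.mk_surjective y
      obtain ⟨y, rfl⟩ := Ideal.Quotient.mk_surjective y
      exact ⟨Ideal.Quotient.mk _ y, rfl⟩
    · obtain ⟨a, rfl⟩ := Ideal.Quotient.mk_surjective a
      rfl
    · obtain ⟨a, rfl⟩ := Ideal.Quotient.mk_surjective a
      rfl
    · intro b hb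
      obtain ⟨b, rfl⟩ := Ideal.Quotient.mk_surjective b
      have h1 : qB b ∈ (I'.map D.t).map qB := by
        rw [← hmapI]
        exact Ideal.Quotient.eq_zero_iff_mem.1 hb
      rw [← Ideal.mem_comap, Ideal.comap_map_of_surjective _ Ideal.Quotient.mk_surjective,
        ← RingHom.ker_eq_comap_bot, Ideal.mk_ker, sup_eq_left.2 (Ideal.map_mono hle)] at h1
      rw [Ideal.Quotient.eq_zero_iff_mem.2 h1]
      exact zero_mem _

set_option maxHeartbeats 800000 in
/-- A relation with an integral surjective cover inside an affine space with trivial action which is a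
quotient, is a quotient. -/
theorem isQuot_of_integral (hD : Good D) (σ : Type u) (J : Ideal (MvPolynomial σ D.A)) (hJ : InvI (poly D σ) J)
    (hint : ((Ideal.Quotient.mk J).comp (MvPolynomial.C (σ := σ))).IsIntegral)
    (hsurj : Function.Surjective (PrimeSpectrum.comap ((Ideal.Quotient.mk J).comp (MvPolynomial.C (σ := σ)))))
    (hQ : ((poly D σ).quot J hJ).IsQuot) : D.IsQuot := by
  classical
  let Jd : (d : Finset σ) → Ideal (MvPolynomial d D.A) := fun d =>
    J.comap (MvPolynomial.rename (R := D.A) (Subtype.val : d → σ))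
  let I : Finset σ → Ideal (MvPolynomial σ D.A) := fun d =>
    (Jd d).map (MvPolynomial.rename (R := D.A) (Subtype.val : d → σ))
  have hJd : ∀ d : Finset σ, InvI (poly D d) (Jd d) := fun d p hp =>
    mem_map_comap_rename Subtype.val D.t D.flat_t J _ (by rw [← MvPolynomial.map_rename]; exact hJ hp)
  have hId : ∀ d, InvI (poly D σ) (I d) := fun d => by
    refine Ideal.map_le_iff_le_comap.2 fun p hp => ?_
    show MvPolynomial.map D.s (MvPolynomial.rename Subtype.val p) ∈ (I d).map (MvPolynomial.map D.t)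
    rw [MvPolynomial.map_rename]
    have h1 := Ideal.mem_map_of_mem (MvPolynomial.rename (R := D.B) (Subtype.val : d → σ)).toRingHom
      (show MvPolynomial.map D.s p ∈ (Jd d).map (MvPolynomial.map D.t) from hJd d hp)
    refine (?_ : _ ≤ (I d).map (MvPolynomial.map D.t)) h1
    rw [Ideal.map_le_iff_le_comap, Ideal.map_le_iff_le_comap]
    intro r hr
    rw [Ideal.mem_comap, Ideal.mem_comap]
    show MvPolynomial.rename (Subtype.val : d → σ) (MvPolynomial.map D.t r) ∈ (I d).map (MvPolynomial.map D.t)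
    rw [← MvPolynomial.map_rename]
    exact Ideal.mem_map_of_mem _ (Ideal.mem_map_of_mem _ hr)
  have hmono : ∀ d d', d ⊆ d' → I d ≤ I d' := fun d d' hdd => by
    refine Ideal.map_le_iff_le_comap.2 fun p hp => ?_
    rw [Ideal.mem_comap, show MvPolynomial.rename (Subtype.val : d → σ) p =
      MvPolynomial.rename (Subtype.val : d' → σ) (MvPolynomial.rename (fun x : d => (⟨x.1, hdd x.2⟩ : d')) p) by
        rw [MvPolynomial.rename_rename]; rfl]
    refine Ideal.mem_map_of_mem _ ?_
    show MvPolynomial.rename _ (MvPolynomial.rename _ p) ∈ J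
    rw [MvPolynomial.rename_rename]
    exact hp
  obtain ⟨d, hd⟩ := exists_isQuot_of_directed (hD.poly σ) I hId
    (fun a b => ⟨a ∪ b, hmono _ _ Finset.subset_union_left, hmono _ _ Finset.subset_union_right⟩) J hJ
    (fun d => Ideal.map_comap_le) (fun f hf => by
      obtain ⟨d, q, rfl⟩ := MvPolynomial.exists_finset_rename f
      exact Submodule.mem_iSup_of_mem d (Ideal.mem_map_of_mem _ hf)) hQ
  let r : ∀ (R : Type u) [CommRing R], MvPolynomial σ R →ₐ[R] MvPolynomial d R := fun R _ =>
    MvPolynomial.killCompl (Subtype.val_injective (p := (· ∈ d)))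
  have hr : ∀ {R S : Type u} [CommRing R] [CommRing S] (f : R →+* S) (p : MvPolynomial σ R),
      r S (MvPolynomial.map f p) = MvPolynomial.map f (r R p) := fun f p => by
    induction p using MvPolynomial.induction_on with
    | C a => simp [r]
    | add p q hp hq => simp only [map_add, hp, hq]
    | mul_X p i hp =>
      simp only [map_mul, hp, MvPolynomial.map_X]
      congr 1
      simp only [r, MvPolynomial.killCompl, MvPolynomial.aeval_X]
      split <;> simp
  let KX : Ideal (MvPolynomial σ D.A) := Ideal.span (MvPolynomial.X '' {i | i ∉ d})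
  have hdiff : ∀ b : MvPolynomial σ D.B,
      b - MvPolynomial.rename (Subtype.val : d → σ) (r D.B b) ∈ KX.map (MvPolynomial.map D.t) := fun b => by
    induction b using MvPolynomial.induction_on with
    | C a => simp [r]
    | add p q hp hq =>
      rw [map_add, map_add, add_sub_add_comm]
      exact add_mem hp hq
    | mul_X p i hp =>
      rw [map_mul, map_mul]
      by_cases hi : i ∈ d
      · rw [show MvPolynomial.rename (Subtype.val : d → σ) (r D.B (MvPolynomial.X i)) = MvPolynomial.X i by
          rw [show (MvPolynomial.X i : MvPolynomial σ D.B) = MvPolynomial.rename (Subtype.val : d → σ)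
            (MvPolynomial.X ⟨i, hi⟩) by simp, MvPolynomial.killCompl_rename_app],
          ← sub_mul]
        exact Ideal.mul_mem_right _ _ hp
      · rw [show r D.B (MvPolynomial.X i) = 0 by
          simp only [r, MvPolynomial.killCompl, MvPolynomial.aeval_X]
          rw [dif_neg (by simpa using hi)], map_zero, mul_zero, sub_zero]
        refine Ideal.mul_mem_left _ _ ?_
        rw [← MvPolynomial.map_X D.t]
        exact Ideal.mem_map_of_mem _ (Ideal.subset_span ⟨i, hi, rfl⟩)
  have hcomap : I d ≤ (Jd d).comap (r D.A) := by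
    refine Ideal.map_le_iff_le_comap.2 fun p hp => ?_
    show r D.A (MvPolynomial.rename Subtype.val p) ∈ Jd d
    rw [MvPolynomial.killCompl_rename_app]
    exact hp
  have hcomapB : (I d).map (MvPolynomial.map D.t) ≤ ((Jd d).map (MvPolynomial.map D.t)).comap (r D.B) := by
    refine Ideal.map_le_iff_le_comap.2 fun p hp => ?_
    rw [Ideal.mem_comap, Ideal.mem_comap, hr]
    exact Ideal.mem_map_of_mem _ (hcomap hp)
  have hQd : ((poly D d).quot (Jd d) (hJd d)).IsQuot := by
    let φ : MvPolynomial σ D.A ⧸ I d →+* MvPolynomial d D.A ⧸ Jd d :=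
      Ideal.quotientMap (Jd d) (r D.A).toRingHom hcomap
    let ψ : MvPolynomial σ D.B ⧸ (I d).map (MvPolynomial.map D.t) →+*
        MvPolynomial d D.B ⧸ (Jd d).map (MvPolynomial.map D.t) :=
      Ideal.quotientMap _ (r D.B).toRingHom hcomapB
    refine isQuot_of_surjective _ _ hd φ ψ ?_ ?_ (fun a => ?_) (fun a => ?_) ?_
    · intro y
      obtain ⟨y, rfl⟩ := Ideal.Quotient.mk_surjective y
      exact ⟨Ideal.Quotient.mk _ (MvPolynomial.rename Subtype.val y),
        congrArg (Ideal.Quotient.mk _) (MvPolynomial.killCompl_rename_app _ y)⟩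
    · intro y
      obtain ⟨y, rfl⟩ := Ideal.Quotient.mk_surjective y
      exact ⟨Ideal.Quotient.mk _ (MvPolynomial.rename Subtype.val y),
        congrArg (Ideal.Quotient.mk _) (MvPolynomial.killCompl_rename_app _ y)⟩
    · obtain ⟨a, rfl⟩ := Ideal.Quotient.mk_surjective a
      exact congrArg (Ideal.Quotient.mk _) (hr D.t a)
    · obtain ⟨a, rfl⟩ := Ideal.Quotient.mk_surjective a
      exact congrArg (Ideal.Quotient.mk _) (hr D.s a)
    · intro b hb
      obtain ⟨b, rfl⟩ := Ideal.Quotient.mk_surjective b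
      have h1 : r D.B b ∈ (Jd d).map (MvPolynomial.map D.t) := Ideal.Quotient.eq_zero_iff_mem.1 hb
      have h2 : MvPolynomial.rename (Subtype.val : d → σ) (r D.B b) ∈ (I d).map (MvPolynomial.map D.t) := by
        refine (?_ : ((Jd d).map (MvPolynomial.map D.t)).map (MvPolynomial.rename (R := D.B) (Subtype.val : d → σ)) ≤
          (I d).map (MvPolynomial.map D.t)) (Ideal.mem_map_of_mem _ h1)
        rw [Ideal.map_le_iff_le_comap, Ideal.map_le_iff_le_comap]
        intro p hp
        rw [Ideal.mem_comap, Ideal.mem_comap]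
        rw [← MvPolynomial.map_rename]
        exact Ideal.mem_map_of_mem _ (Ideal.mem_map_of_mem _ hp)
      have hX : KX.map (Ideal.Quotient.mk (I d)) ≤ RingHom.ker φ := by
        rw [Ideal.map_le_iff_le_comap, Ideal.span_le]
        rintro _ ⟨i, hi, rfl⟩
        show Ideal.Quotient.mk (Jd d) (r D.A (MvPolynomial.X i)) = 0
        simp only [r, MvPolynomial.killCompl, MvPolynomial.aeval_X]
        rw [dif_neg (by simpa using hi), map_zero]
      refine Ideal.map_mono hX ?_
      rw [show Ideal.Quotient.mk ((I d).map (MvPolynomial.map D.t)) b =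
        Ideal.Quotient.mk _ (b - MvPolynomial.rename (Subtype.val : d → σ) (r D.B b)) from
        (Ideal.Quotient.eq.2 (by simpa using neg_mem h2)).symm]
      have h3 := Ideal.mem_map_of_mem (Ideal.Quotient.mk ((I d).map (MvPolynomial.map D.t))) (hdiff b)
      rw [Ideal.map_map] at h3 ⊢
      exact h3
  let ω : MvPolynomial d D.A ⧸ Jd d →ₐ[D.A] MvPolynomial σ D.A ⧸ J :=
    Ideal.quotientMapₐ J (MvPolynomial.rename (R := D.A) (Subtype.val : d → σ)) le_rfl
  refine isQuot_of_finite hD d (Jd d) (hJd d) ?_ ?_ hQd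
  · have hωi : Function.Injective ω := Ideal.quotientMap_injective
    have : Algebra.IsIntegral D.A (MvPolynomial d D.A ⧸ Jd d) :=
      ⟨fun x => (isIntegral_algHom_iff ω hωi).1 (hint (ω x))⟩
    have : Algebra.FiniteType D.A (MvPolynomial d D.A ⧸ Jd d) :=
      Algebra.FiniteType.of_surjective (Ideal.Quotient.mkₐ D.A (Jd d)) Ideal.Quotient.mk_surjective
    exact RingHom.finite_algebraMap.2 (Algebra.IsIntegral.finite (R := D.A) (A := MvPolynomial d D.A ⧸ Jd d))
  · intro p
    obtain ⟨P, rfl⟩ := hsurj p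
    refine ⟨PrimeSpectrum.comap ω.toRingHom P, ?_⟩
    rw [← PrimeSpectrum.comap_comp_apply]
    congr 1
    exact RingHom.ext fun a => congrArg (Ideal.Quotient.mk J) (MvPolynomial.rename_C _ a)

end Groth.Agent.ChevSp
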