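import Groth.Agent.ChevSp.Quot
import Groth.Agent.ChevSp.Dev
import Groth.Agent.AlgSpPts.SepDescent
import Groth.Agent.GrpdThick.AffineQuot

/-!
# Chevalley's theorem for algebraic spaces
-/

set_option backward.isDefEq.respectTransparency false
set_option backward.isDefEq.respectTransparency.types false

universe u

open CategoryTheory CategoryTheory.Limits AlgebraicGeometry Opposite AlgSp MorphismProperty

namespace Groth.Agent.ChevSp

open Groth.Agent.AlgSpLib Groth.Agent.GrpdThick Groth.Agent.AlgSpPts

/-- A universally closed monomorphism locally of finite type is a closed immersion. -/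
theorem isClosedImmersion_of_mono {X Y : Scheme.{u}} (f : X ⟶ Y) [Mono f] [LocallyOfFiniteType f]
    [UniversallyClosed f] : IsClosedImmersion f := by
  have : IsProper f := { }
  exact (IsClosedImmersion.iff_isProper_and_mono _).2 ⟨‹IsProper f›, ‹Mono f›⟩

/-- The pairs over an affine scheme are a closed subscheme of all pairs. -/
theorem isClosedImmersion_pairs {W P T : Scheme.{u}} [IsAffine T] {h : P ⟶ T} {a b : W ⟶ P}
    (sq : IsPullback a b h h) :
    IsClosedImmersion (pullback.lift a b (terminal.hom_ext _ _) : W ⟶ pullback (terminal.from P) (terminal.from P)) := by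
  have : IsClosedImmersion (pullback.mapDesc h h (terminal.from T)) := inferInstance
  have e : (pullback.lift a b (terminal.hom_ext _ _) : W ⟶ pullback (terminal.from P) (terminal.from P)) =
      sq.isoPullback.hom ≫ pullback.mapDesc h h (terminal.from T) ≫
        (pullback.congrHom (terminal.hom_ext _ _) (terminal.hom_ext _ _)).hom := by
    apply pullback.hom_ext <;> simp [pullback.mapDesc]
  rw [e]
  infer_instance

/-- The ring of a product of affine schemes is generated by the two factors. -/
theorem mem_closure_of_closedImmersion {R X Y : Scheme.{u}} [IsAffine X] [IsAffine Y]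
    (j : R ⟶ pullback (terminal.from X) (terminal.from Y)) [IsClosedImmersion j] (p : R ⟶ X) (q : R ⟶ Y)
    (hp : j ≫ pullback.fst _ _ = p) (hq : j ≫ pullback.snd _ _ = q) (b : Γ(R, ⊤)) :
    b ∈ AddSubmonoid.closure {x | ∃ a a', x = p.appTop.hom a * q.appTop.hom a'} := by
  algebraize [(terminal.from X).appTop.hom, (terminal.from Y).appTop.hom]
  let e := (CommRingCat.isPushout_tensorProduct Γ(⊤_ Scheme, ⊤) Γ(X, ⊤) Γ(Y, ⊤)).isoIsPushout _ _
    (isPushout_appTop_of_isPullback (IsPullback.of_hasPullback (terminal.from X) (terminal.from Y)))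
  obtain ⟨z, rfl⟩ := j.app_surjective ⊤ (isAffineOpen_top _) b
  obtain ⟨w, rfl⟩ := e.commRingCatIsoToRingEquiv.surjective z
  induction w using TensorProduct.induction_on with
  | zero => rw [map_zero, map_zero]; exact zero_mem _
  | add x y hx hy => rw [map_add, map_add]; exact add_mem hx hy
  | tmul x y =>
    refine AddSubmonoid.subset_closure ⟨x, y, ?_⟩
    have h1 := congrArg (fun φ => φ.hom x) ((CommRingCat.isPushout_tensorProduct Γ(⊤_ Scheme, ⊤) Γ(X, ⊤) Γ(Y, ⊤)).inl_isoIsPushout_hom _ _
      (isPushout_appTop_of_isPullback (IsPullback.of_hasPullback (terminal.from X) (terminal.from Y))))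
    have h2 := congrArg (fun φ => φ.hom y) ((CommRingCat.isPushout_tensorProduct Γ(⊤_ Scheme, ⊤) Γ(X, ⊤) Γ(Y, ⊤)).inr_isoIsPushout_hom _ _
      (isPushout_appTop_of_isPullback (IsPullback.of_hasPullback (terminal.from X) (terminal.from Y))))
    show j.appTop.hom (e.hom.hom (x ⊗ₜ y)) = _
    rw [show x ⊗ₜ[Γ(⊤_ Scheme, ⊤)] y = (x ⊗ₜ[Γ(⊤_ Scheme, ⊤)] 1) * (1 ⊗ₜ y) by simp, map_mul, map_mul,
      show e.hom.hom (x ⊗ₜ[Γ(⊤_ Scheme, ⊤)] 1) = (pullback.fst (terminal.from X) (terminal.from Y)).appTop.hom x from h1,
      show e.hom.hom ((1 : Γ(X, ⊤)) ⊗ₜ[Γ(⊤_ Scheme, ⊤)] y) = (pullback.snd (terminal.from X) (terminal.from Y)).appTop.hom y from h2,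
      ← RingHom.comp_apply, ← RingHom.comp_apply, ← CommRingCat.hom_comp, ← CommRingCat.hom_comp,
      ← Scheme.Hom.comp_appTop, ← Scheme.Hom.comp_appTop, hp, hq]

open TensorProduct in
set_option maxHeartbeats 1000000 in
/-- An algebraic space receiving a surjective universally closed morphism from an affine scheme is affine. -/
theorem exists_affine_of_univClosed {S : Scheme.{u}} {Y : Sp S} (hY : IsAlgSpace Y) {T : Over S} [IsAffine T.left]
    (f : (yon S).obj T ⟶ Y) (hc : IsUnivClosedMor f) (hsurj : Function.Surjective (Points.map f)) :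
    ∃ Q : Over S, IsAffine Q.left ∧ Nonempty ((yon S).obj Q ≅ Y) := by
  have hqc : IsQuasiCompactSp Y := by
    have : CompactSpace T.left := inferInstance
    have : CompactSpace (Points ((yon S).obj T)) := (Points.schemeHomeo T).compactSpace
    have : CompactSpace (Points Y) := hsurj.compactSpace (Points.continuous_map _)
    exact isQuasiCompactSp_of_compactSpace hY
  obtain ⟨U, a, hU, he, hs⟩ := (Groth.Agent.S10180.result ⟨Y, hY⟩).1 hqc
  have hr : Representable f := hY.representable_from_yon f
  have hu : RepWith (topologically @IsClosedMap).universally f :=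
    repWith_universally_of_univSp (Q := IsClosedMor) (fun V U g hg => by
      change IsClosedMap g.left
      rw [left_eq_conj]
      exact (Points.schemeHomeo U).symm.isClosedMap.comp (hg.comp (Points.schemeHomeo V).isClosedMap)) hr hc
  have hsf : RepWith @Surjective f := repWith_surjective_of_surjective hr hsurj
  -- the pulled back chart
  let P : Over S := hr.pullback a
  let g : P ⟶ U := hr.snd a
  let fX : (yon S).obj P ⟶ (yon S).obj T := hr.fst a
  have sq0 : IsPullback fX ((yon S).map g) f a := hr.isPullback a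
  let h : P ⟶ T := (yon S).preimage fX
  have hh : (yon S).map h = fX := Functor.map_preimage _ _
  have : Etale h.left := (repWith_yon_map_iff _ h).1 (by rw [hh]; exact repWith_of_isPullback sq0.flip he)
  have : Surjective h.left := (repWith_yon_map_iff _ h).1 (by rw [hh]; exact repWith_of_isPullback sq0.flip hs)
  have : UniversallyClosed g.left := ⟨hu.property_snd a⟩
  have : Surjective g.left := hsf.property_snd a
  -- the kernel pair of the chart
  let hra := he.rep
  let R : Over S := hra.pullback a
  let s : R ⟶ U := hra.snd a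
  let t : R ⟶ U := hra.fst' a
  have sq : IsPullback ((yon S).map t) ((yon S).map s) a a := hra.isPullback' a
  have : Etale s.left := he.property a _ _ sq
  have : Etale t.left := he.property a _ _ sq.flip
  -- its restriction to the pulled back chart
  let R₀ : Over S := CategoryTheory.Over.mk (pullback.fst s.left g.left ≫ R.hom)
  let f₀ : R₀ ⟶ R := CategoryTheory.Over.homMk (pullback.fst _ _) rfl
  let g₀ : R₀ ⟶ P := CategoryTheory.Over.homMk (pullback.snd s.left g.left) (by
    show _ ≫ P.hom = pullback.fst _ _ ≫ R.hom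
    rw [← CategoryTheory.Over.w s, ← CategoryTheory.Over.w g, ← Category.assoc, ← Category.assoc, pullback.condition])
  have sqs : IsPullback ((yon S).map g₀) ((yon S).map f₀) ((yon S).map g) ((yon S).map s) :=
    (IsPullback.of_map (CategoryTheory.Over.forget S) (f := g₀) (g := f₀) (h := g) (i := s)
      (Over.OverMorphism.ext pullback.condition.symm)
      (IsPullback.of_hasPullback s.left g.left).flip).map (yon S)
  have sqP : IsPullback ((yon S).map g₀ ≫ fX) ((yon S).map f₀) f ((yon S).map t ≫ a) := by
    rw [sq.w]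
    exact sqs.paste_horiz sq0
  let t₀ : R₀ ⟶ P := (yon S).preimage (sq0.lift ((yon S).map g₀ ≫ fX) ((yon S).map f₀ ≫ (yon S).map t)
    (sqP.w.trans (Category.assoc _ _ _).symm))
  have ht₀X : (yon S).map t₀ ≫ fX = (yon S).map g₀ ≫ fX := by rw [Functor.map_preimage, sq0.lift_fst]
  have ht₀c : (yon S).map t₀ ≫ (yon S).map g = (yon S).map f₀ ≫ (yon S).map t := by
    rw [Functor.map_preimage, sq0.lift_snd]
  have hsqt : IsPullback ((yon S).map t₀) ((yon S).map f₀) ((yon S).map g) ((yon S).map t) :=
    IsPullback.of_right (by rw [ht₀X]; exact sqP) ht₀c sq0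
  have ht₀ : IsPullback (pullback.fst s.left g.left) t₀.left t.left g.left :=
    ((IsPullback.of_map (yon S) ((yon S).map_injective (by rw [Functor.map_comp, Functor.map_comp, hsqt.w]))
      hsqt).map (CategoryTheory.Over.forget S)).flip
  have hsq₀ : IsPullback ((yon S).map t₀) ((yon S).map g₀) fX fX :=
    IsPullback.of_right (by rw [ht₀c, sq0.w]; exact sqs.flip.paste_horiz sq) ht₀X sq0.flip
  rw [← hh] at hsq₀
  have hW : IsPullback t₀.left (pullback.snd s.left g.left) h.left h.left :=
    (IsPullback.of_map (yon S) ((yon S).map_injective (by rw [Functor.map_comp, Functor.map_comp, hsq₀.w]))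
      hsq₀).map (CategoryTheory.Over.forget S)
  -- the relation is a closed subscheme of all pairs
  let UU := pullback (terminal.from U.left) (terminal.from U.left)
  let j : R.left ⟶ UU := pullback.lift t.left s.left (terminal.hom_ext _ _)
  have : IsAffine U.left := hU
  have hjm : Mono j := ⟨fun x y hxy => pair_ext sq (by simpa [j] using congrArg (· ≫ pullback.snd _ _) hxy)
    (by simpa [j] using congrArg (· ≫ pullback.fst _ _) hxy)⟩
  have hjl : LocallyOfFiniteType j := by
    have : LocallyOfFiniteType (j ≫ pullback.fst _ _) := by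
      rw [pullback.lift_fst]; infer_instance
    exact locallyOfFiniteType_of_comp j (pullback.fst _ _)
  have hju : UniversallyClosed j := by
    let k : pullback s.left g.left ⟶ pullback (terminal.from P.left) (terminal.from P.left) :=
      pullback.lift t₀.left (pullback.snd s.left g.left) (terminal.hom_ext _ _)
    have : IsClosedImmersion (k : pullback s.left g.left ⟶ pullback (terminal.from P.left) (terminal.from P.left)) :=
      isClosedImmersion_pairs hW
    let gg : pullback (terminal.from P.left) (terminal.from P.left) ⟶ UU :=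
      pullback.map _ _ _ _ g.left g.left (𝟙 _) (terminal.hom_ext _ _) (terminal.hom_ext _ _)
    have : UniversallyClosed gg :=
      MorphismProperty.pullbackMap (P := @UniversallyClosed) ‹UniversallyClosed g.left› ‹UniversallyClosed g.left›
        (terminal.hom_ext _ _) (terminal.hom_ext _ _)
    have e : pullback.fst s.left g.left ≫ j = k ≫ gg := by
      apply pullback.hom_ext
      · simp [j, k, gg, ht₀.w]
      · simp [j, k, gg, pullback.condition]
    have : UniversallyClosed (pullback.fst s.left g.left ≫ j) := by rw [e]; infer_instance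
    exact UniversallyClosed.of_comp_surjective (pullback.fst s.left g.left) j
  have : IsClosedImmersion j := isClosedImmersion_of_mono j
  have : IsAffine R.left := isAffine_of_isAffineHom j
  -- the pulled back chart is a closed subscheme of the product
  let UT := pullback (terminal.from U.left) (terminal.from T.left)
  let c : P.left ⟶ UT := pullback.lift g.left h.left (terminal.hom_ext _ _)
  have hcm : Mono c := ⟨fun {Z} x y hxy => by
    have hg : x ≫ g.left = y ≫ g.left := by simpa [c] using congrArg (· ≫ pullback.fst _ _) hxy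
    have hh' : x ≫ h.left = y ≫ h.left := by simpa [c] using congrArg (· ≫ pullback.snd _ _) hxy
    have hw : x ≫ P.hom = y ≫ P.hom := by
      rw [← CategoryTheory.Over.w g, ← Category.assoc, hg, Category.assoc]
    let x' : CategoryTheory.Over.mk (x ≫ P.hom) ⟶ P := CategoryTheory.Over.homMk x rfl
    let y' : CategoryTheory.Over.mk (x ≫ P.hom) ⟶ P := CategoryTheory.Over.homMk y hw.symm
    have : x' = y' := (yon S).map_injective (sq0.hom_ext
      (by rw [← hh, ← Functor.map_comp, ← Functor.map_comp]; exact congrArg _ (Over.OverMorphism.ext hh'))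
      (by rw [← Functor.map_comp, ← Functor.map_comp]; exact congrArg _ (Over.OverMorphism.ext hg)))
    exact congrArg CategoryTheory.Over.Hom.left this⟩
  have hcl : LocallyOfFiniteType c := by
    have : LocallyOfFiniteType (c ≫ pullback.snd _ _) := by
      rw [pullback.lift_snd]; infer_instance
    exact locallyOfFiniteType_of_comp c (pullback.snd _ _)
  have : QuasiCompact g.left := inferInstance
  have : CompactSpace P.left := QuasiCompact.compactSpace_of_compactSpace g.left
  have : QuasiCompact h.left := inferInstance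
  have hcu : UniversallyClosed c := by
    let k : pullback s.left g.left ⟶ pullback (terminal.from P.left) (terminal.from P.left) :=
      pullback.lift t₀.left (pullback.snd s.left g.left) (terminal.hom_ext _ _)
    have : IsClosedImmersion (k : pullback s.left g.left ⟶ pullback (terminal.from P.left) (terminal.from P.left)) :=
      isClosedImmersion_pairs hW
    let gP : pullback (terminal.from P.left) (terminal.from P.left) ⟶ pullback (terminal.from U.left) (terminal.from P.left) :=
      pullback.map _ _ _ _ g.left (𝟙 _) (𝟙 _) (terminal.hom_ext _ _) (terminal.hom_ext _ _)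
    have : UniversallyClosed gP :=
      MorphismProperty.pullbackMap (P := @UniversallyClosed) ‹UniversallyClosed g.left› inferInstance
        (terminal.hom_ext _ _) (terminal.hom_ext _ _)
    let hP : pullback (terminal.from U.left) (terminal.from P.left) ⟶ UT :=
      pullback.map _ _ _ _ (𝟙 _) h.left (𝟙 _) (terminal.hom_ext _ _) (terminal.hom_ext _ _)
    have hPfst : hP ≫ pullback.fst _ _ = pullback.fst (terminal.from U.left) (terminal.from P.left) := by
      simp [hP]
    have hPsnd : hP ≫ pullback.snd _ _ = pullback.snd (terminal.from U.left) (terminal.from P.left) ≫ h.left := by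
      simp [hP]
    have hbc : IsPullback hP (pullback.snd _ _) (pullback.snd _ _) h.left := by
      refine IsPullback.of_right ?_ hPsnd (IsPullback.of_hasPullback (terminal.from U.left) (terminal.from T.left))
      rw [hPfst, show h.left ≫ terminal.from T.left = terminal.from P.left from terminal.hom_ext _ _]
      exact IsPullback.of_hasPullback (terminal.from U.left) (terminal.from P.left)
    have hsq : IsPullback t₀.left (k ≫ gP) c hP := by
      refine IsPullback.of_bot ?_ ?_ hbc
      · simp only [k, gP, Category.assoc, pullback.lift_snd, Category.comp_id, c]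
        exact hW
      · apply pullback.hom_ext
        · simp [c, k, gP, hP]
        · simp [c, k, gP, hP, hW.w]
    have : Surjective hP := MorphismProperty.of_isPullback (P := @Surjective) hbc.flip inferInstance
    have : Flat hP := MorphismProperty.of_isPullback (P := @Flat) hbc.flip inferInstance
    have : QuasiCompact hP := MorphismProperty.of_isPullback (P := @QuasiCompact) hbc.flip inferInstance
    exact of_isPullback_of_descendsAlong (P := @UniversallyClosed) (Q := @Surjective ⊓ @Flat ⊓ @QuasiCompact)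
      hsq.flip ⟨⟨inferInstance, inferInstance⟩, inferInstance⟩ inferInstance
  have : IsClosedImmersion c := isClosedImmersion_of_mono c
  have : IsAffine P.left := isAffine_of_isAffineHom c
  have : IsIntegralHom g.left :=
    IsIntegralHom.iff_universallyClosed_and_isAffineHom.2 ⟨inferInstance, inferInstance⟩
  -- the rings
  let G := pairGroupoid sq
  have : IsAffine G.U := hU
  have : IsAffine G.R := ‹IsAffine R.left›
  have : Flat G.t := (inferInstance : Flat t.left)
  let D := relOf G
  have hD : Good D := by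
    refine ⟨⟨G.i.appTop.hom, fun x => ?_, fun x => ?_⟩, fun b => ?_, ?_⟩
    · exact congrArg (fun φ => φ.hom x) ((Scheme.Hom.comp_appTop G.i G.s).symm.trans (congrArg Scheme.Hom.appTop G.i_s))
    · exact congrArg (fun φ => φ.hom x) ((Scheme.Hom.comp_appTop G.i G.t).symm.trans (congrArg Scheme.Hom.appTop G.i_t))
    · exact mem_closure_of_closedImmersion j t.left s.left (pullback.lift_fst _ _ _) (pullback.lift_snd _ _ _) b
    · exact (HasRingHomProperty.iff_of_isAffine (P := @Etale)).1 ‹Etale t.left›
  let gA : Γ(U.left, ⊤) →+* Γ(P.left, ⊤) := g.left.appTop.hom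
  let hA : Γ(T.left, ⊤) →+* Γ(P.left, ⊤) := h.left.appTop.hom
  let π₁ : Γ(P.left, ⊤) →+* Γ(pullback s.left g.left, ⊤) := t₀.left.appTop.hom
  let π₂ : Γ(P.left, ⊤) →+* Γ(pullback s.left g.left, ⊤) := (pullback.snd s.left g.left).appTop.hom
  let rA : Γ(R.left, ⊤) →+* Γ(pullback s.left g.left, ⊤) := (pullback.fst s.left g.left).appTop.hom
  have hrt : ∀ x, rA (t.left.appTop.hom x) = π₁ (gA x) := fun x =>
    congrArg (fun φ => φ.hom x) (congrArg Scheme.Hom.appTop ht₀.w)
  have hrs : ∀ x, rA (s.left.appTop.hom x) = π₂ (gA x) := fun x =>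
    congrArg (fun φ => φ.hom x) (congrArg Scheme.Hom.appTop (pullback.condition (f := s.left) (g := g.left)))
  have hππ : ∀ x, π₁ (hA x) = π₂ (hA x) := fun x => congrArg (fun φ => φ.hom x) (congrArg Scheme.Hom.appTop hW.w)
  let σ : Type u := Γ(T.left, ⊤)
  let ε : MvPolynomial σ D.A →+* Γ(P.left, ⊤) := MvPolynomial.eval₂Hom gA fun x => hA x
  have hεC : ∀ x, ε (MvPolynomial.C x) = gA x := fun x => MvPolynomial.eval₂Hom_C _ _ x
  have hεX : ∀ x, ε (MvPolynomial.X x) = hA x := fun x => MvPolynomial.eval₂Hom_X' _ _ x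
  have hεs : Function.Surjective ε := fun y => by
    have hy := mem_closure_of_closedImmersion c g.left h.left (pullback.lift_fst _ _ _) (pullback.lift_snd _ _ _) y
    induction hy using AddSubmonoid.closure_induction with
    | mem x hx =>
      obtain ⟨v, w, rfl⟩ := hx
      exact ⟨(MvPolynomial.C (R := D.A) (σ := σ) v) * MvPolynomial.X (R := D.A) (σ := σ) w, (map_mul ε _ _).trans (congrArg₂ (· * ·) (hεC v) (hεX w))⟩
    | zero => exact ⟨0, map_zero ε⟩
    | add x y _ _ hx hy =>
      obtain ⟨v, rfl⟩ := hx
      obtain ⟨w, rfl⟩ := hy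
      exact ⟨v + w, map_add ε v w⟩
  let εB : MvPolynomial σ D.B →+* Γ(pullback s.left g.left, ⊤) := MvPolynomial.eval₂Hom rA fun x => π₁ (hA x)
  have hεt : εB.comp (MvPolynomial.map D.t) = π₁.comp ε := by
    refine MvPolynomial.ringHom_ext (fun x => ?_) fun x => ?_
    · simp only [RingHom.comp_apply, MvPolynomial.map_C, εB, MvPolynomial.eval₂Hom_C, hεC]
      exact hrt x
    · simp only [RingHom.comp_apply, MvPolynomial.map_X, εB, MvPolynomial.eval₂Hom_X', hεX]
  have hεs' : εB.comp (MvPolynomial.map D.s) = π₂.comp ε := by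
    refine MvPolynomial.ringHom_ext (fun x => ?_) fun x => ?_
    · simp only [RingHom.comp_apply, MvPolynomial.map_C, εB, MvPolynomial.eval₂Hom_C, hεC]
      exact hrs x
    · simp only [RingHom.comp_apply, MvPolynomial.map_X, εB, MvPolynomial.eval₂Hom_X', hεX]
      exact hππ x
  let J : Ideal (MvPolynomial σ D.A) := RingHom.ker ε
  let JB : Ideal (MvPolynomial σ D.B) := J.map (MvPolynomial.map D.t)
  have hJle : JB ≤ RingHom.ker εB := by
    refine Ideal.map_le_iff_le_comap.2 fun p hp => ?_
    show εB.comp (MvPolynomial.map D.t) p = 0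
    rw [hεt, RingHom.comp_apply, show ε p = 0 from hp, map_zero]
  let eA : MvPolynomial σ D.A ⧸ J ≃+* Γ(P.left, ⊤) := RingHom.quotientKerEquivOfSurjective hεs
  have heA : ∀ p, eA (Ideal.Quotient.mk J p) = ε p := fun p => rfl
  obtain ⟨eB, heB⟩ : ∃ e : MvPolynomial σ D.B ⧸ JB ≃+* Γ(pullback s.left g.left, ⊤),
      ∀ p, e (Ideal.Quotient.mk JB p) = εB p := by
    have hpo := isPushout_appTop_of_isPullback ht₀
    let tJ : MvPolynomial σ D.A ⧸ J →+* MvPolynomial σ D.B ⧸ JB :=
      Ideal.quotientMap JB (MvPolynomial.map D.t) Ideal.le_comap_map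
    let CB : Γ(R.left, ⊤) →+* MvPolynomial σ D.B ⧸ JB := (Ideal.Quotient.mk JB).comp MvPolynomial.C
    let CP : Γ(P.left, ⊤) →+* MvPolynomial σ D.B ⧸ JB := tJ.comp eA.symm.toRingHom
    have hw : t.left.appTop ≫ CommRingCat.ofHom CB = g.left.appTop ≫ CommRingCat.ofHom CP := by
      refine CommRingCat.hom_ext <| RingHom.ext fun x => ?_
      show CB (D.t x) = tJ (eA.symm (gA x))
      rw [show eA.symm (gA x) = Ideal.Quotient.mk J (MvPolynomial.C x) from
        eA.symm_apply_eq.2 (by rw [heA, hεC])]
      exact congrArg (Ideal.Quotient.mk JB) (MvPolynomial.map_C D.t x).symm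
    let back := (hpo.desc (CommRingCat.ofHom CB) (CommRingCat.ofHom CP) hw).hom
    have hb1 : ∀ x, back (rA x) = CB x := fun x =>
      congrArg (fun φ => φ.hom x) (hpo.inl_desc (CommRingCat.ofHom CB) (CommRingCat.ofHom CP) hw)
    have hb2 : ∀ x, back (π₁ x) = CP x := fun x =>
      congrArg (fun φ => φ.hom x) (hpo.inr_desc (CommRingCat.ofHom CB) (CommRingCat.ofHom CP) hw)
    have hcomp : back.comp εB = Ideal.Quotient.mk JB := by
      refine MvPolynomial.ringHom_ext (fun x => ?_) fun x => ?_
      · simp only [RingHom.comp_apply, εB, MvPolynomial.eval₂Hom_C]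
        exact hb1 x
      · simp only [RingHom.comp_apply, εB, MvPolynomial.eval₂Hom_X']
        rw [hb2]
        show tJ (eA.symm (hA x)) = _
        rw [show eA.symm (hA x) = Ideal.Quotient.mk J (MvPolynomial.X x) from
          eA.symm_apply_eq.2 (by rw [heA, hεX])]
        exact congrArg (Ideal.Quotient.mk JB) (MvPolynomial.map_X D.t x)
    let fwd : MvPolynomial σ D.B ⧸ JB →+* Γ(pullback s.left g.left, ⊤) := Ideal.Quotient.lift JB εB hJle
    have hbf : ∀ z, back (fwd z) = z := fun z => by
      obtain ⟨z, rfl⟩ := Ideal.Quotient.mk_surjective z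
      exact RingHom.congr_fun hcomp z
    have hfb : CommRingCat.ofHom (fwd.comp back) = 𝟙 _ := by
      refine hpo.hom_ext ?_ ?_ <;> refine CommRingCat.hom_ext (RingHom.ext fun x => ?_)
      · show fwd (back (rA x)) = rA x
        rw [hb1]
        exact MvPolynomial.eval₂Hom_C _ _ x
      · show fwd (back (π₁ x)) = π₁ x
        rw [hb2]
        obtain ⟨p, rfl⟩ := hεs x
        show fwd (tJ (eA.symm (ε p))) = _
        rw [show eA.symm (ε p) = Ideal.Quotient.mk J p from eA.symm_apply_eq.2 (heA p).symm]
        exact RingHom.congr_fun hεt p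
    let e : MvPolynomial σ D.B ⧸ JB ≃+* Γ(pullback s.left g.left, ⊤) :=
      { fwd with invFun := back, left_inv := hbf, right_inv := fun z => congrArg (fun φ => φ.hom z) hfb }
    exact ⟨e, fun p => rfl⟩
  have hker : ∀ p, εB p = 0 → p ∈ JB := fun p hp => by
    rw [← Ideal.Quotient.eq_zero_iff_mem]
    exact eB.injective (by rw [heB, hp, map_zero])
  have hJ : InvI (poly D σ) J := fun p hp => hker _ (by
    show εB.comp (MvPolynomial.map D.s) p = 0
    rw [hεs', RingHom.comp_apply, show ε p = 0 from hp, map_zero])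
  -- the cover is a quotient
  have hQ : ((poly D σ).quot J hJ).IsQuot := by
    let : Algebra Γ(T.left, ⊤) Γ(P.left, ⊤) := hA.toAlgebra
    have hfl : Module.Flat Γ(T.left, ⊤) Γ(P.left, ⊤) := h.left.flat_appTop
    have : Module.FaithfullyFlat Γ(T.left, ⊤) Γ(P.left, ⊤) := by
      refine Module.FaithfullyFlat.of_comap_surjective fun p => ?_
      obtain ⟨v, hv⟩ := T.left.isoSpec.hom.surjective p
      obtain ⟨x, hx⟩ := h.left.surjective v
      exact ⟨P.left.isoSpec.hom x, by
        show PrimeSpectrum.comap h.left.appTop.hom _ = _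
        rw [← GrpdLib.isoSpec_apply_appTop, hx, hv]⟩
    let f₁ : Γ(T.left, ⊤) →+* MvPolynomial σ D.A ⧸ J := eA.symm.toRingHom.comp hA
    have hf₁ : ∀ x, f₁ x = Ideal.Quotient.mk J (MvPolynomial.X x) := fun x =>
      eA.symm_apply_eq.2 (by rw [heA, hεX])
    refine isQuot_of_model ((poly D σ).quot J hJ) f₁ (fun x => ?_) eA.symm.toRingHom (fun x => rfl) ?_
    · show Ideal.quotientMap JB (MvPolynomial.map D.t) Ideal.le_comap_map (f₁ x) =
        Ideal.quotientMap JB (MvPolynomial.map D.s) hJ (f₁ x)
      rw [hf₁, Ideal.quotientMap_mk, Ideal.quotientMap_mk, MvPolynomial.map_X, MvPolynomial.map_X]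
    let D₂ := (poly D σ).quot J hJ
    let : Algebra Γ(T.left, ⊤) D₂.A := f₁.toAlgebra
    let eAₐ : D₂.A ≃ₐ[Γ(T.left, ⊤)] Γ(P.left, ⊤) := AlgEquiv.ofRingEquiv (f := (eA : D₂.A ≃+* Γ(P.left, ⊤))) fun x => eA.apply_symm_apply _
    let i := (CommRingCat.isPushout_tensorProduct Γ(T.left, ⊤) Γ(P.left, ⊤) Γ(P.left, ⊤)).isoIsPushout _ _
      (isPushout_appTop_of_isPullback hW)
    have hi : ∀ x y, i.commRingCatIsoToRingEquiv (x ⊗ₜ y) = π₁ x * π₂ y := fun x y => by
      have h1 := congrArg (fun φ => φ.hom x) ((CommRingCat.isPushout_tensorProduct Γ(T.left, ⊤) Γ(P.left, ⊤) Γ(P.left, ⊤)).inl_isoIsPushout_hom _ _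
        (isPushout_appTop_of_isPullback hW))
      have h2 := congrArg (fun φ => φ.hom y) ((CommRingCat.isPushout_tensorProduct Γ(T.left, ⊤) Γ(P.left, ⊤) Γ(P.left, ⊤)).inr_isoIsPushout_hom _ _
        (isPushout_appTop_of_isPullback hW))
      show i.hom.hom (x ⊗ₜ y) = _
      rw [show x ⊗ₜ[Γ(T.left, ⊤)] y = (x ⊗ₜ[Γ(T.left, ⊤)] 1) * (1 ⊗ₜ y) by simp, map_mul]
      exact congrArg₂ (· * ·) h1 h2
    let E : D₂.A ⊗[Γ(T.left, ⊤)] Γ(P.left, ⊤) ≃+* MvPolynomial σ D.B ⧸ JB :=
      (((Algebra.TensorProduct.congr eAₐ AlgEquiv.refl).toRingEquiv).trans i.commRingCatIsoToRingEquiv).trans eB.symm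
    refine ⟨E.toRingHom, fun x y => ?_, E.bijective⟩
    show eB.symm (i.commRingCatIsoToRingEquiv (Algebra.TensorProduct.congr eAₐ AlgEquiv.refl (x ⊗ₜ y))) = _
    rw [Algebra.TensorProduct.congr_apply, Algebra.TensorProduct.map_tmul]
    erw [hi]
    obtain ⟨p, rfl⟩ := Ideal.Quotient.mk_surjective x
    obtain ⟨q, rfl⟩ := hεs y
    rw [RingEquiv.symm_apply_eq]
    show π₁ (ε p) * π₂ (ε q) = eB (Ideal.Quotient.mk JB (MvPolynomial.map D.t p) *
      Ideal.quotientMap JB (MvPolynomial.map D.s) hJ (eA.symm (ε q)))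
    rw [show eA.symm (ε q) = Ideal.Quotient.mk J q from eA.symm_apply_eq.2 (heA q).symm, Ideal.quotientMap_mk,
      map_mul, heB, heB, ← RingHom.comp_apply, ← RingHom.comp_apply, ← hεt, ← hεs']
    rfl
  have hcompA : (eA : MvPolynomial σ D.A ⧸ J →+* Γ(P.left, ⊤)).comp ((Ideal.Quotient.mk J).comp MvPolynomial.C) = gA :=
    RingHom.ext fun x => hεC x
  have hgi : gA.IsIntegral := isIntegral_appTop_of_universallyClosed g.left
  have hint : ((Ideal.Quotient.mk J).comp (MvPolynomial.C (σ := σ))).IsIntegral := fun x => by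
    obtain ⟨Q, hQm, hQ⟩ := hgi (eA x)
    refine ⟨Q, hQm, eA.injective ?_⟩
    rw [map_zero, ← hQ, ← hcompA]
    exact Polynomial.hom_eval₂ _ _ (eA : MvPolynomial σ D.A ⧸ J →+* Γ(P.left, ⊤)) _
  refine exists_affine_of_isQuot he hs sq (isQuot_of_integral hD σ J hJ hint (fun p => ?_) hQ)
  obtain ⟨v, hv⟩ := U.left.isoSpec.hom.surjective p
  obtain ⟨x, hx⟩ := g.left.surjective v
  refine ⟨PrimeSpectrum.comap (eA : MvPolynomial σ D.A ⧸ J →+* Γ(P.left, ⊤)) (P.left.isoSpec.hom x), ?_⟩
  rw [← PrimeSpectrum.comap_comp_apply, hcompA]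
  show PrimeSpectrum.comap g.left.appTop.hom _ = _
  rw [← GrpdLib.isoSpec_apply_appTop, hx, hv]

end Groth.Agent.ChevSp
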