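import Groth.Agent.GrpdThick.Quotient
import Mathlib.LinearAlgebra.TensorProduct.Pi
import Mathlib.RingTheory.RingHom.Etale

/-!
# Submodules of free modules along the arrows of an affine étale relation
-/

set_option backward.isDefEq.respectTransparency false
set_option backward.isDefEq.respectTransparency.types false

universe u w

open CategoryTheory TensorProduct
open Groth.Agent.GrpdThick

namespace Groth.Agent.ChevSp

section Ext

variable {A B C : Type u} [CommRing A] [CommRing B] [CommRing C] {κ : Type w}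

/-- The extension along `φ` of a submodule of a free module. -/
def ext (φ : A →+* B) (N : Submodule A (κ → A)) : Submodule B (κ → B) :=
  Submodule.span B ((fun n => φ ∘ n) '' (N : Set (κ → A)))

theorem comp_mem_ext (φ : A →+* B) {N : Submodule A (κ → A)} {n : κ → A} (hn : n ∈ N) : φ ∘ n ∈ ext φ N :=
  Submodule.subset_span ⟨n, hn, rfl⟩

theorem ext_le {φ : A →+* B} {N : Submodule A (κ → A)} {P : Submodule B (κ → B)} (h : ∀ n ∈ N, φ ∘ n ∈ P) :
    ext φ N ≤ P :=
  Submodule.span_le.2 <| by rintro _ ⟨n, hn, rfl⟩; exact h n hn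

theorem ext_mono (φ : A →+* B) {N N' : Submodule A (κ → A)} (h : N ≤ N') : ext φ N ≤ ext φ N' :=
  ext_le fun _ hn => comp_mem_ext φ (h hn)

theorem ext_bot (φ : A →+* B) : ext φ (⊥ : Submodule A (κ → A)) = ⊥ :=
  le_bot_iff.1 <| ext_le fun n hn => by
    rw [(Submodule.mem_bot A).1 hn]
    exact (Submodule.mem_bot B).2 (funext fun k => map_zero φ)

theorem ext_top [Fintype κ] [DecidableEq κ] (φ : A →+* B) : ext φ (⊤ : Submodule A (κ → A)) = ⊤ :=
  top_le_iff.1 fun μ _ => by
    rw [show μ = ∑ k, μ k • (φ ∘ Pi.single k 1) by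
      funext j
      simp [Finset.sum_apply, Pi.single_apply, apply_ite φ]]
    exact Submodule.sum_mem _ fun k _ => Submodule.smul_mem _ _ (comp_mem_ext φ trivial)

theorem map_mem_ext (φ : A →+* B) (ψ : B →+* C) {N : Submodule A (κ → A)} {μ : κ → B} (hμ : μ ∈ ext φ N) :
    ψ ∘ μ ∈ ext (ψ.comp φ) N := by
  induction hμ using Submodule.span_induction with
  | mem x hx => obtain ⟨n, hn, rfl⟩ := hx; exact comp_mem_ext (ψ.comp φ) hn
  | zero =>
    rw [show ψ ∘ (0 : κ → B) = 0 from funext fun k => map_zero ψ]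
    exact zero_mem _
  | add x y _ _ hx hy =>
    rw [show ψ ∘ (x + y) = ψ ∘ x + ψ ∘ y from funext fun k => map_add ψ _ _]
    exact add_mem hx hy
  | smul c x _ hx =>
    rw [show ψ ∘ (c • x) = ψ c • (ψ ∘ x) from funext fun k => map_mul ψ _ _]
    exact Submodule.smul_mem _ _ hx

variable [Fintype κ]

/-- A flat base change of a linear map of a free module has the extended kernel. -/
theorem mem_ext_ker [DecidableEq κ] (φ : A →+* B) (hφ : φ.Flat) {X : Type*} [AddCommGroup X] [Module A X]
    (f : (κ → A) →ₗ[A] X) (μ : κ → B)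
    (h : letI := φ.toAlgebra; ∑ k, μ k ⊗ₜ[A] f (Pi.single k 1) = 0) :
    μ ∈ ext φ (LinearMap.ker f) := by
  algebraize [φ]
  have : Module.Flat A B := hφ
  let θ : B ⊗[A] (κ → A) →+ (κ → B) := TensorProduct.liftAddHom
    { toFun := fun b =>
        { toFun := fun v => fun k => b * φ (v k)
          map_zero' := funext fun k => by simp
          map_add' := fun v w => funext fun k => by simp [mul_add] }
      map_zero' := by ext v k; simp
      map_add' := fun b c => by ext v k; simp [add_mul] }
    (fun a b v => funext fun k => by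
      show φ a * b * φ (v k) = b * φ (a * v k)
      rw [map_mul]; ring)
  let ν : B ⊗[A] (κ → A) := ∑ k, μ k ⊗ₜ Pi.single k 1
  have hν : θ ν = μ := by
    funext j
    simp [ν, θ, Finset.sum_apply, Pi.single_apply, apply_ite φ]
  have hk : f.lTensor B ν = 0 := by
    simp only [ν, map_sum, LinearMap.lTensor_tmul]
    exact h
  obtain ⟨w, hw⟩ := (Module.Flat.lTensor_exact B (LinearMap.exact_subtype_ker_map f) ν).1 hk
  rw [← hν, ← hw]
  clear hw
  induction w using TensorProduct.induction_on with
  | zero => simp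
  | tmul b v =>
    rw [LinearMap.lTensor_tmul, show θ (b ⊗ₜ (LinearMap.ker f).subtype v) = b • (φ ∘ (v : κ → A)) from rfl]
    exact Submodule.smul_mem _ _ (comp_mem_ext φ v.2)
  | add x y hx hy => rw [map_add, map_add]; exact add_mem hx hy

/-- A vector killed by the extension of a linear form lies in the extension of its kernel. -/
theorem mem_ext_ker_form (φ : A →+* B) (hφ : φ.Flat) (p : κ → A) (μ : κ → B) (h : ∑ k, φ (p k) * μ k = 0) :
    μ ∈ ext φ (LinearMap.ker (Fintype.linearCombination A p)) := by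
  classical
  refine mem_ext_ker φ hφ _ μ ?_
  let := φ.toAlgebra
  simp only [Fintype.linearCombination_apply_single, one_smul]
  calc _ = ∑ k, (φ (p k) * μ k) ⊗ₜ[A] (1 : A) := Finset.sum_congr rfl fun k _ => by
        rw [show p k = p k • (1 : A) by simp, TensorProduct.tmul_smul, TensorProduct.smul_tmul']
        simp [Algebra.smul_def]
        rfl
    _ = 0 := by rw [← TensorProduct.sum_tmul, h, TensorProduct.zero_tmul]

end Ext

theorem exists_lTensor_ker {A : Type*} [CommRing A] (B : Type*) [AddCommGroup B] [Module A B] [Module.Flat A B]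
    {N X : Type*} [AddCommGroup N] [Module A N] [AddCommGroup X] [Module A X] (f : N →ₗ[A] X) {ν : B ⊗[A] N}
    (hν : f.lTensor B ν = 0) : ∃ w, (LinearMap.ker f).subtype.lTensor B w = ν :=
  (Module.Flat.lTensor_exact B (LinearMap.exact_subtype_ker_map f) ν).1 hν

/-- For a pushout with `φ` flat, vectors in an extension killed by a matrix over the other factor lie
in the extension of the vectors killed by the matrix. -/
theorem mem_ext_of_pushout {A B₁ B₂ C : Type u} [CommRing A] [CommRing B₁] [CommRing B₂] [CommRing C]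
    {φ : A →+* B₁} {ψ : A →+* B₂} {P₁ : B₁ →+* C} {P₂ : B₂ →+* C}
    (sq : IsPushout (CommRingCat.ofHom φ) (CommRingCat.ofHom ψ) (CommRingCat.ofHom P₁) (CommRingCat.ofHom P₂))
    (hφ : φ.Flat) {κ ι : Type} [Fintype κ] [Fintype ι] (N N' : Submodule A (κ → A)) (c : ι → κ → B₂)
    (hN' : ∀ v ∈ N, (∀ j, ∑ k, c j k * ψ (v k) = 0) → v ∈ N') {μ : κ → B₁} (hμ : μ ∈ ext φ N)
    (h : ∀ j, ∑ k, P₁ (μ k) * P₂ (c j k) = 0) : μ ∈ ext φ N' := by
  classical
  let := φ.toAlgebra
  let := ψ.toAlgebra
  have : Module.Flat A B₁ := hφ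
  let i := (CommRingCat.isPushout_tensorProduct A B₁ B₂).isoIsPushout _ _ sq
  have hi : ∀ r b, i.hom.hom (r ⊗ₜ b) = P₁ r * P₂ b := fun r b => by
    have h1 := congrArg (fun F => F.hom r) ((CommRingCat.isPushout_tensorProduct A B₁ B₂).inl_isoIsPushout_hom _ _ sq)
    have h2 := congrArg (fun F => F.hom b) ((CommRingCat.isPushout_tensorProduct A B₁ B₂).inr_isoIsPushout_hom _ _ sq)
    rw [show r ⊗ₜ[A] b = (r ⊗ₜ[A] 1) * (1 ⊗ₜ b) by simp, map_mul]
    exact congrArg₂ (· * ·) h1 h2
  let f : N →ₗ[A] (ι → B₂) :=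
    { toFun := fun v j => ∑ k, c j k * ψ ((v : κ → A) k)
      map_add' := fun v w => funext fun j => by
        simp [mul_add, Finset.sum_add_distrib]
      map_smul' := fun a v => funext fun j => by
        show ∑ k, c j k * ψ (a * (v : κ → A) k) = ψ a * ∑ k, c j k * ψ ((v : κ → A) k)
        rw [Finset.mul_sum]
        exact Finset.sum_congr rfl fun k _ => by rw [map_mul]; ring }
  let θ : B₁ ⊗[A] N →+ (κ → B₁) := TensorProduct.liftAddHom
    { toFun := fun b =>
        { toFun := fun v => fun k => b * φ ((v : κ → A) k)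
          map_zero' := funext fun k => by simp
          map_add' := fun v w => funext fun k => by simp [mul_add] }
      map_zero' := by ext v k; simp
      map_add' := fun b c => by ext v k; simp [add_mul] }
    (fun a b v => funext fun k => by
      show φ a * b * φ ((v : κ → A) k) = b * φ (a * (v : κ → A) k)
      rw [map_mul]; ring)
  obtain ⟨ν, rfl⟩ : ∃ ν, θ ν = μ := by
    clear h
    induction hμ using Submodule.span_induction with
    | mem x hx =>
      obtain ⟨n, hn, rfl⟩ := hx
      exact ⟨1 ⊗ₜ ⟨n, hn⟩, funext fun k => one_mul _⟩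
    | zero => exact ⟨0, map_zero θ⟩
    | add x y _ _ hx hy =>
      obtain ⟨a, rfl⟩ := hx
      obtain ⟨b, rfl⟩ := hy
      exact ⟨a + b, map_add θ a b⟩
    | smul b x _ hx =>
      obtain ⟨a, rfl⟩ := hx
      refine ⟨b • a, ?_⟩
      suffices h : ∀ a, θ (b • a) = b • θ a from h a
      intro a
      clear * -
      induction a using TensorProduct.induction_on with
      | zero => simp
      | tmul r v =>
        funext k
        show b * r * φ ((v : κ → A) k) = b * (r * φ ((v : κ → A) k))
        ring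
      | add x y hx hy => rw [smul_add, map_add, map_add, hx, hy, smul_add]
  have key : ∀ (ν : B₁ ⊗[A] N) j,
      i.hom.hom (TensorProduct.piRight A A B₁ (fun _ : ι => B₂) (f.lTensor B₁ ν) j) =
        ∑ k, P₁ (θ ν k) * P₂ (c j k) := fun ν j => by
    induction ν using TensorProduct.induction_on with
    | zero => simp
    | tmul b v =>
      rw [LinearMap.lTensor_tmul, TensorProduct.piRight_apply, TensorProduct.piRightHom_tmul, hi]
      show P₁ b * P₂ (∑ k, c j k * ψ ((v : κ → A) k)) = ∑ k, P₁ (b * φ ((v : κ → A) k)) * P₂ (c j k)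
      rw [map_sum, Finset.mul_sum]
      refine Finset.sum_congr rfl fun k _ => ?_
      rw [map_mul, map_mul, show P₁ (φ ((v : κ → A) k)) = P₂ (ψ ((v : κ → A) k)) from
        congrArg (fun F => F.hom ((v : κ → A) k)) sq.w]
      ring
    | add x y hx hy => simp only [map_add, Pi.add_apply, hx, hy, add_mul, Finset.sum_add_distrib]
  have hk : f.lTensor B₁ ν = 0 := by
    apply (TensorProduct.piRight A A B₁ (fun _ : ι => B₂)).injective
    rw [map_zero]
    funext j
    apply i.commRingCatIsoToRingEquiv.injective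
    exact (key ν j).trans ((h j).trans (map_zero i.hom.hom).symm)
  obtain ⟨w, rfl⟩ := exists_lTensor_ker B₁ f hk
  clear hμ h hk
  induction w using TensorProduct.induction_on with
  | zero => simp
  | tmul b v =>
    rw [LinearMap.lTensor_tmul, show θ (b ⊗ₜ (LinearMap.ker f).subtype v) = b • (φ ∘ ((v : N) : κ → A)) from rfl]
    exact Submodule.smul_mem _ _ (comp_mem_ext φ (hN' _ (v : N).2 fun j => congrFun v.2 j))
  | add x y hx hy => rw [map_add, map_add]; exact add_mem hx hy

/-- The hypotheses on a relation: it has an inverse, it is generated by objects, the target is étale. -/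
structure Good (D : Rel.{u}) : Prop where
  inv : ∃ i : D.B →+* D.B, (∀ a, i (D.s a) = D.t a) ∧ ∀ a, i (D.t a) = D.s a
  gen : ∀ b : D.B, b ∈ AddSubmonoid.closure {x | ∃ a a', x = D.t a * D.s a'}
  etale : D.t.Etale

theorem Good.flat_s {D : Rel.{u}} (hD : Good D) : D.s.Flat := by
  obtain ⟨i, his, hit⟩ := hD.inv
  have hii : ∀ b, i (i b) = b := fun b => by
    induction hD.gen b using AddSubmonoid.closure_induction with
    | mem x hx => obtain ⟨a, a', rfl⟩ := hx; rw [map_mul, hit, his, map_mul, his, hit]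
    | zero => simp
    | add x y _ _ hx hy => rw [map_add, map_add, hx, hy]
  rw [show D.s = i.comp D.t from RingHom.ext fun a => (hit a).symm]
  exact D.flat_t.comp (RingHom.Flat.of_bijective (Function.Involutive.bijective hii))

variable {D : Rel.{u}} {κ : Type}

variable (D) in
/-- The extension along the target. -/
def sp (N : Submodule D.A (κ → D.A)) : Submodule D.B (κ → D.B) := ext D.t N

variable (D) in
/-- The extension to composable arrows. -/
def spC (N : Submodule D.A (κ → D.A)) : Submodule D.C (κ → D.C) := ext (D.p₁.comp D.t) N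

variable (D) in
/-- An invariant submodule. -/
def Inv (N : Submodule D.A (κ → D.A)) : Prop := ∀ n ∈ N, D.s ∘ n ∈ sp D N

variable (D) in
/-- The defect of a vector over the arrows to be a cocycle. -/
def coc (z : κ → D.B) : κ → D.C := D.p₁ ∘ z + D.p₂ ∘ z - D.m ∘ z

variable (D) in
/-- The coboundary. -/
def cob (n : κ → D.A) : κ → D.B := D.t ∘ n - D.s ∘ n

variable (D) in
/-- Cocycles in the subquotient are coboundaries. -/
def Ac (N₁ N₂ : Submodule D.A (κ → D.A)) : Prop :=
  ∀ z ∈ sp D N₂, coc D z ∈ spC D N₁ → ∃ n ∈ N₂, z - cob D n ∈ sp D N₁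

theorem w₂ (D : Rel.{u}) (a : D.A) : D.p₂ (D.t a) = D.p₁ (D.s a) := congrArg (fun F => F.hom a) D.sq₁.w

theorem coc_cob (n : κ → D.A) : coc D (cob D n) = 0 := by
  funext k
  show D.p₁ (D.t (n k) - D.s (n k)) + D.p₂ (D.t (n k) - D.s (n k)) - D.m (D.t (n k) - D.s (n k)) = 0
  rw [map_sub, map_sub, map_sub, w₂, show D.m (D.t (n k)) = D.p₁ (D.t (n k)) from RingHom.congr_fun D.m_t _,
    show D.m (D.s (n k)) = D.p₂ (D.s (n k)) from RingHom.congr_fun D.m_s _]
  ring

theorem coc_sub (z z' : κ → D.B) : coc D (z - z') = coc D z - coc D z' := by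
  funext k
  show D.p₁ (z k - z' k) + D.p₂ (z k - z' k) - D.m (z k - z' k) = _
  rw [map_sub, map_sub, map_sub]
  show _ = (D.p₁ (z k) + D.p₂ (z k) - D.m (z k)) - (D.p₁ (z' k) + D.p₂ (z' k) - D.m (z' k))
  ring

theorem cob_add (n n' : κ → D.A) : cob D (n + n') = cob D n + cob D n' := by
  funext k
  show D.t (n k + n' k) - D.s (n k + n' k) = D.t (n k) - D.s (n k) + (D.t (n' k) - D.s (n' k))
  rw [map_add, map_add]; ring

theorem cob_sub (n n' : κ → D.A) : cob D (n - n') = cob D n - cob D n' := by
  rw [eq_sub_iff_add_eq, ← cob_add, sub_add_cancel]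

/-- Acyclicity is stable under extensions. -/
theorem Ac.trans {N₁ N₂ N₃ : Submodule D.A (κ → D.A)} (h : N₁ ≤ N₂) (h' : N₂ ≤ N₃) (ha : Ac D N₁ N₂)
    (hb : Ac D N₂ N₃) : Ac D N₁ N₃ := fun z hz hc => by
  obtain ⟨n, hn, hz'⟩ := hb z hz (ext_mono _ h hc)
  obtain ⟨n', hn', hz''⟩ := ha _ hz' (by rwa [coc_sub, coc_cob, sub_zero])
  exact ⟨n + n', add_mem hn (h' hn'), by rwa [cob_add, ← sub_sub]⟩

theorem Inv.swap (hD : Good D) {N : Submodule D.A (κ → D.A)} (hN : Inv D N) : ext D.s N = sp D N := by
  obtain ⟨i, his, hit⟩ := hD.inv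
  refine le_antisymm (ext_le hN) (ext_le fun n hn => ?_)
  have := map_mem_ext D.t i (hN n hn)
  rwa [show i.comp D.t = D.s from RingHom.ext hit, show i ∘ (D.s ∘ n) = D.t ∘ n from funext fun k => his _] at this

theorem Inv.of_swap (hD : Good D) {N : Submodule D.A (κ → D.A)} (hN : ∀ n ∈ N, D.t ∘ n ∈ ext D.s N) : Inv D N := by
  obtain ⟨i, his, hit⟩ := hD.inv
  intro n hn
  have := map_mem_ext D.s i (hN n hn)
  rwa [show i.comp D.s = D.t from RingHom.ext his, show i ∘ (D.t ∘ n) = D.s ∘ n from funext fun k => hit _] at this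

/-- An element of the extension is a combination with coefficients from the source. -/
theorem exists_sum_of_mem_sp (hD : Good D) {N : Submodule D.A (κ → D.A)} {μ : κ → D.B} (hμ : μ ∈ sp D N) :
    ∃ (r : ℕ) (a : Fin r → D.A) (n : Fin r → κ → D.A), (∀ l, n l ∈ N) ∧
      μ = ∑ l, D.s (a l) • (D.t ∘ n l) := by
  let S : Set (κ → D.B) := {x | ∃ a n, n ∈ N ∧ x = D.s a • (D.t ∘ n)}
  have hmem : μ ∈ AddSubmonoid.closure S := by
    induction hμ using Submodule.span_induction with
    | mem x hx =>
      obtain ⟨n, hn, rfl⟩ := hx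
      exact AddSubmonoid.subset_closure ⟨1, n, hn, by rw [map_one, one_smul]⟩
    | zero => exact zero_mem _
    | add x y _ _ hx hy => exact add_mem hx hy
    | smul c x hx' hx =>
      clear hx'
      induction hD.gen c using AddSubmonoid.closure_induction with
      | mem c hc =>
        obtain ⟨a, a', rfl⟩ := hc
        induction hx using AddSubmonoid.closure_induction with
        | mem x hx =>
          obtain ⟨b, n, hn, rfl⟩ := hx
          refine AddSubmonoid.subset_closure ⟨a' * b, a • n, N.smul_mem a hn, funext fun k => ?_⟩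
          show D.t a * D.s a' * (D.s b * D.t (n k)) = D.s (a' * b) * D.t (a * n k)
          rw [map_mul, map_mul]; ring
        | zero => rw [smul_zero]; exact zero_mem _
        | add x y _ _ hx hy => rw [smul_add]; exact add_mem hx hy
      | zero => rw [zero_smul]; exact zero_mem _
      | add c c' _ _ hc hc' => rw [add_smul]; exact add_mem hc hc'
  clear hμ
  induction hmem using AddSubmonoid.closure_induction with
  | mem x hx =>
    obtain ⟨a, n, hn, rfl⟩ := hx
    exact ⟨1, fun _ => a, fun _ => n, fun _ => hn, by simp⟩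
  | zero => exact ⟨0, Fin.elim0, Fin.elim0, fun l => l.elim0, by simp⟩
  | add x y _ _ hx hy =>
    obtain ⟨r, a, n, hn, rfl⟩ := hx
    obtain ⟨r', a', n', hn', rfl⟩ := hy
    refine ⟨r + r', Fin.append a a', Fin.append n n', ?_, by simp [Fin.sum_univ_add]⟩
    intro l
    induction l using Fin.addCases with
    | left l => rw [Fin.append_left]; exact hn l
    | right l => rw [Fin.append_right]; exact hn' l

end Groth.Agent.ChevSp
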