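import Groth.Agent.ChevSp.Basic
import Mathlib.RingTheory.Flat.EquationalCriterion
import Mathlib.RingTheory.Flat.FaithfullyFlat.Algebra
import Mathlib.LinearAlgebra.TensorProduct.Finiteness

/-!
# A relation on which cocycles are coboundaries is a quotient
-/

set_option backward.isDefEq.respectTransparency false
set_option backward.isDefEq.respectTransparency.types false

universe u

open CategoryTheory TensorProduct
open Groth.Agent.GrpdThick

namespace Groth.Agent.ChevSp

variable {D : Rel.{u}}

variable (D) in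
/-- The vectors of `N` killed by a matrix moved along the source. -/
def Kr {κ ι : Type} [Fintype κ] (b : ι → κ → D.A) (N : Submodule D.A (κ → D.A)) : Submodule D.A (κ → D.A) where
  carrier := {v | v ∈ N ∧ ∀ j, ∑ k, D.s (b j k) * D.t (v k) = 0}
  zero_mem' := ⟨zero_mem _, fun j => by simp⟩
  add_mem' := fun {v w} hv hw => ⟨add_mem hv.1 hw.1, fun j => by
    simp only [Pi.add_apply, map_add, mul_add, Finset.sum_add_distrib, hv.2 j, hw.2 j, add_zero]⟩
  smul_mem' := fun a v hv => ⟨N.smul_mem a hv.1, fun j => by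
    simp only [Pi.smul_apply, smul_eq_mul, map_mul, mul_left_comm _ (D.t a), ← Finset.mul_sum, hv.2 j, mul_zero]⟩

theorem mem_sp_Kr (hD : Good D) {κ ι : Type} [Fintype κ] [Fintype ι] {N : Submodule D.A (κ → D.A)} (hN : Inv D N)
    (b : ι → κ → D.A) {μ : κ → D.B} (hμ : μ ∈ sp D N)
    (h : ∀ j, ∑ k, D.p₁ (μ k) * D.p₂ (D.s (b j k)) = 0) : μ ∈ ext D.s (Kr D b N) := by
  rw [← hN.swap hD] at hμ
  exact mem_ext_of_pushout D.sq₁.flip hD.flat_s N (Kr D b N) (fun j k => D.s (b j k))
    (fun v hv hv' => ⟨hv, hv'⟩) hμ h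

theorem Inv.Kr (hD : Good D) {κ ι : Type} [Fintype κ] [Fintype ι] {N : Submodule D.A (κ → D.A)} (hN : Inv D N)
    (b : ι → κ → D.A) : Inv D (Kr D b N) := by
  refine Inv.of_swap hD fun v hv => mem_sp_Kr hD hN b (comp_mem_ext _ hv.1) fun j => ?_
  rw [← map_zero D.m, ← hv.2 j, map_sum]
  refine Finset.sum_congr rfl fun k _ => ?_
  rw [map_mul, show D.m (D.t (v k)) = D.p₁ (D.t (v k)) from RingHom.congr_fun D.m_t _,
    show D.m (D.s (b j k)) = D.p₂ (D.s (b j k)) from RingHom.congr_fun D.m_s _, mul_comm]
  rfl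

theorem inv_top {κ : Type} [Fintype κ] : Inv D (⊤ : Submodule D.A (κ → D.A)) := fun n _ => by
  classical
  rw [sp, ext_top]
  trivial

theorem e_s_apply (D : Rel.{u}) (a : D.A) : D.e (D.s a) = a := RingHom.congr_fun D.e_s a

theorem e_t_apply (D : Rel.{u}) (a : D.A) : D.e (D.t a) = a := RingHom.congr_fun D.e_t a

/-- A vector is invariant up to an element of `N`. -/
theorem exists_invariant {κ : Type} {N : Submodule D.A (κ → D.A)} (h : Ac D ⊥ N) {x : κ → D.A}
    (hx : cob D x ∈ sp D N) : ∃ n ∈ N, ∀ k, D.s ((x - n) k) = D.t ((x - n) k) := by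
  obtain ⟨n, hn, hn'⟩ := h _ hx (by rw [coc_cob]; exact zero_mem _)
  refine ⟨n, hn, fun k => ?_⟩
  rw [sp, ext_bot, Submodule.mem_bot, ← cob_sub] at hn'
  exact (sub_eq_zero.1 (congrFun hn' k)).symm

variable (D) in
/-- The vectors over `μ × κ` whose rows lie in `N`. -/
def power (μ : Type) {κ : Type} (N : Submodule D.A (κ → D.A)) : Submodule D.A (μ × κ → D.A) where
  carrier := {v | ∀ l, (fun k => v (l, k)) ∈ N}
  zero_mem' := fun l => zero_mem N
  add_mem' := fun hv hw l => add_mem (hv l) (hw l)
  smul_mem' := fun a _ hv l => N.smul_mem a (hv l)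

/-- Insertion of a row. -/
def row {μ κ R : Type*} [DecidableEq μ] [Zero R] (l : μ) (v : κ → R) : μ × κ → R :=
  fun p => if p.1 = l then v p.2 else 0

theorem row_mem_ext {A B : Type u} [CommRing A] [CommRing B] {μ κ : Type} [DecidableEq μ] (φ : A →+* B)
    {N : Submodule A (κ → A)} {P : Submodule A (μ × κ → A)} (l : μ) (hP : ∀ n ∈ N, row l n ∈ P) {z : κ → B}
    (hz : z ∈ ext φ N) : row l z ∈ ext φ P := by
  induction hz using Submodule.span_induction with
  | mem x hx =>
    obtain ⟨n, hn, rfl⟩ := hx
    rw [show row l (φ ∘ n) = φ ∘ row l n from funext fun p => by simp [row, apply_ite φ]]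
    exact comp_mem_ext φ (hP n hn)
  | zero =>
    rw [show row l (0 : κ → B) = 0 from funext fun p => by simp [row]]
    exact zero_mem _
  | add x y _ _ hx hy =>
    rw [show row l (x + y) = row l x + row l y from funext fun p => by simp [row]; split_ifs <;> simp]
    exact add_mem hx hy
  | smul c x _ hx =>
    rw [show row l (c • x) = c • row l x from funext fun p => by simp [row]]
    exact Submodule.smul_mem _ _ hx

theorem mem_sp_power {μ κ : Type} [Fintype μ] {N : Submodule D.A (κ → D.A)} {z : μ × κ → D.B}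
    (hz : ∀ l, (fun k => z (l, k)) ∈ sp D N) : z ∈ sp D (power D μ N) := by
  classical
  rw [show z = ∑ l, row l (fun k => z (l, k)) from funext fun p => by
    simp [row, Finset.sum_apply]]
  refine Submodule.sum_mem _ fun l _ => row_mem_ext D.t l (fun n hn => ?_) (hz l)
  intro l'
  by_cases h : l' = l
  · simpa [row, h] using hn
  · simp only [row, h, if_false]
    exact zero_mem N

theorem Inv.power {μ κ : Type} [Fintype μ] {N : Submodule D.A (κ → D.A)} (hN : Inv D N) :
    Inv D (power D μ N) :=
  fun _ hv => mem_sp_power fun l => hN _ (hv l)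

/-- Invariant submodules are spanned by invariant vectors. -/
theorem exists_invariant_span (hD : Good D) (hAc : ∀ (κ : Type) [Fintype κ] (N : Submodule D.A (κ → D.A)),
      Inv D N → Ac D ⊥ N) {κ : Type} [Fintype κ] {N : Submodule D.A (κ → D.A)} (hN : Inv D N) {y : κ → D.A}
    (hy : y ∈ N) : ∃ (r : ℕ) (c : Fin r → D.A) (k : Fin r → κ → D.A),
      (∀ l, k l ∈ N ∧ ∀ i, D.s (k l i) = D.t (k l i)) ∧ y = ∑ l, c l • k l := by
  classical
  obtain ⟨r, b, n, hn, hy'⟩ := exists_sum_of_mem_sp hD (hN y hy)
  let M := ChevSp.power D (Fin r) N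
  let β : κ → Fin r × κ → D.A := fun i p => if p.2 = i then b p.1 else 0
  have hβ : ∀ {S : Type u} [CommRing S] (f : D.A →+* S) (z : Fin r × κ → S) (i : κ),
      ∑ p, f (β i p) * z p = ∑ l, f (b l) * z (l, i) := fun f z i => by
    simp [β, Fintype.sum_prod_type, apply_ite f, ite_mul]
  let nv : Fin r × κ → D.A := fun p => n p.1 p.2
  have hy'' : ∀ i, D.s (y i) = ∑ l, D.s (b l) * D.t (n l i) := fun i => by
    have := congrFun hy' i
    simpa [Finset.sum_apply] using this
  have hM : Inv D M := Inv.power hN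
  have hcob : cob D nv ∈ sp D (Kr D β M) := by
    rw [← (hM.Kr hD β).swap hD]
    refine mem_sp_Kr hD hM β ?_ fun i => ?_
    · exact sub_mem (comp_mem_ext D.t (show nv ∈ M from hn)) (hM nv hn)
    · have e1 := hβ (D.p₂.comp D.s) (fun p => D.p₁ (cob D nv p)) i
      simp only [RingHom.comp_apply] at e1
      rw [Finset.sum_congr rfl fun p _ => mul_comm _ _, e1]
      have e2 : ∀ l, D.p₂ (D.s (b l)) * D.p₁ (cob D nv (l, i)) =
          D.m (D.s (b l) * D.t (n l i)) - D.p₂ (D.s (b l) * D.t (n l i)) := fun l => by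
        show D.p₂ (D.s (b l)) * D.p₁ (D.t (n l i) - D.s (n l i)) = _
        rw [map_mul, map_mul, map_sub, show D.m (D.s (b l)) = D.p₂ (D.s (b l)) from RingHom.congr_fun D.m_s _,
          show D.m (D.t (n l i)) = D.p₁ (D.t (n l i)) from RingHom.congr_fun D.m_t _, w₂]
        ring
      rw [Finset.sum_congr rfl fun l _ => e2 l, Finset.sum_sub_distrib, ← map_sum, ← map_sum, ← hy'', sub_eq_zero]
      exact RingHom.congr_fun D.m_s _
  obtain ⟨w, hw, hinv⟩ := exists_invariant (hAc _ _ (hM.Kr hD β)) hcob
  refine ⟨r, b, fun l i => nv (l, i) - w (l, i), fun l => ⟨sub_mem (hn l) (hw.1 l), fun i => hinv (l, i)⟩, ?_⟩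
  funext i
  have hw0 : ∑ l, D.s (b l) * D.t (w (l, i)) = 0 := by
    rw [← hβ D.s (fun p => D.t (w p)) i]
    exact hw.2 i
  have := hy'' i
  rw [← sub_zero (∑ l, D.s (b l) * D.t (n l i)), ← hw0, ← Finset.sum_sub_distrib] at this
  have e3 : D.s (y i) = D.s (∑ l, b l * (nv (l, i) - w (l, i))) := by
    rw [this, map_sum]
    refine Finset.sum_congr rfl fun l _ => ?_
    rw [map_mul, show D.s (nv (l, i) - w (l, i)) = D.t (nv (l, i) - w (l, i)) from hinv (l, i), map_sub, mul_sub]
  have := congrArg D.e e3
  rw [e_s_apply, e_s_apply] at this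
  simpa [Finset.sum_apply] using this

set_option maxHeartbeats 800000 in
/-- A relation on which cocycles are coboundaries is a quotient. -/
theorem isQuot_of_ac (hD : Good D) (hAc : ∀ (κ : Type) [Fintype κ] (N : Submodule D.A (κ → D.A)),
    Inv D N → Ac D ⊥ N) : D.IsQuot := by
  classical
  let K := D.s.eqLocus D.t
  have hflat : Module.Flat K D.A := Module.Flat.of_forall_isTrivialRelation fun {l f x} hfx => by
    let b : Unit → Fin l → D.A := fun _ i => (f i : D.A)
    have hx : x ∈ Kr D b ⊤ := by
      refine ⟨trivial, fun _ => ?_⟩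
      rw [← map_zero D.t, ← hfx, map_sum]
      refine Finset.sum_congr rfl fun i _ => ?_
      show D.s (f i : D.A) * D.t (x i) = D.t ((f i : D.A) * x i)
      rw [map_mul, (f i).2]
    obtain ⟨r, c, k, hk, hxe⟩ := exists_invariant_span hD hAc (inv_top.Kr hD b) hx
    refine ⟨r, fun i j => ⟨k j i, (hk j).2 i⟩, c, fun i => ?_, fun j => ?_⟩
    · rw [hxe, Finset.sum_apply]
      exact Finset.sum_congr rfl fun j _ => mul_comm _ _
    · apply Subtype.ext
      have := congrArg D.e ((hk j).1.2 ())
      rw [map_sum, map_zero] at this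
      simp only [map_mul, e_s_apply, e_t_apply] at this
      simpa [b] using this
  have : Module.FaithfullyFlat K D.A :=
    { toFlat := hflat
      submodule_ne_top := fun 𝔭 h𝔭 htop => by
        have h1 : (1 : D.A) ∈ 𝔭 • (⊤ : Submodule K D.A) := by rw [htop]; trivial
        obtain ⟨r, p, a, hp, hpa⟩ : ∃ (r : ℕ) (p : Fin r → K) (a : Fin r → D.A), (∀ i, p i ∈ 𝔭) ∧
            (1 : D.A) = ∑ i, (p i : D.A) * a i := by
          generalize (1 : D.A) = y at h1
          refine Submodule.smul_induction_on h1 (fun p hp a _ => ⟨1, fun _ => p, fun _ => a, fun _ => hp,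
            by simp; rfl⟩) fun x y hx hy => ?_
          ·
            obtain ⟨r, p, a, hp, rfl⟩ := hx
            obtain ⟨r', p', a', hp', rfl⟩ := hy
            refine ⟨r + r', Fin.append p p', Fin.append a a', ?_, by simp [Fin.sum_univ_add]⟩
            intro i
            induction i using Fin.addCases with
            | left i => rw [Fin.append_left]; exact hp i
            | right i => rw [Fin.append_right]; exact hp' i
        let b : Unit → Fin r → D.A := fun _ i => (p i : D.A)
        have hker : LinearMap.ker (Fintype.linearCombination D.A fun i => (p i : D.A)) ≤ Kr D b ⊤ := fun v hv => by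
          refine ⟨trivial, fun _ => ?_⟩
          rw [← map_zero D.t, ← (LinearMap.mem_ker.1 hv), Fintype.linearCombination_apply, map_sum]
          refine Finset.sum_congr rfl fun i _ => ?_
          rw [smul_eq_mul, map_mul, mul_comm (D.t (v i))]
          exact congrArg (· * D.t (v i)) (p i).2
        have hcob : cob D a ∈ sp D (Kr D b ⊤) := by
          refine ext_mono _ hker (mem_ext_ker_form D.t D.flat_t _ _ ?_)
          have e : ∀ i, D.t (p i : D.A) * cob D a i = D.t ((p i : D.A) * a i) - D.s ((p i : D.A) * a i) := fun i => by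
            show D.t (p i : D.A) * (D.t (a i) - D.s (a i)) = _
            rw [map_mul, map_mul, show D.s (p i : D.A) = D.t (p i : D.A) from (p i).2]
            ring
          rw [Finset.sum_congr rfl fun i _ => e i, Finset.sum_sub_distrib, ← map_sum, ← map_sum, ← hpa, map_one,
            map_one, sub_self]
        obtain ⟨n, hn, hinv⟩ := exists_invariant (hAc _ _ (inv_top.Kr hD b)) hcob
        apply h𝔭.ne_top
        rw [Ideal.eq_top_iff_one, show (1 : K) = ∑ i, p i * ⟨(a - n) i, hinv i⟩ from Subtype.ext (by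
          have h0 := congrArg D.e (hn.2 ())
          rw [map_sum, map_zero] at h0
          simp only [map_mul, e_s_apply, e_t_apply] at h0
          push_cast
          simp only [Pi.sub_apply, mul_sub, Finset.sum_sub_distrib, ← hpa]
          simp only [b] at h0
          rw [h0, sub_zero])]
        exact Ideal.sum_mem _ fun i _ => Ideal.mul_mem_right _ _ (hp i) }
  let : Algebra D.A D.B := D.t.toAlgebra
  let : Algebra K D.B := (D.t.comp K.subtype).toAlgebra
  have : IsScalarTower K D.A D.B := IsScalarTower.of_algebraMap_eq fun _ => rfl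
  let sK : D.A →ₐ[K] D.B := { D.s with commutes' := fun k => k.2 }
  let L : D.A ⊗[K] D.A →ₐ[D.A] D.B := Algebra.TensorProduct.lift (Algebra.ofId D.A D.B) sK fun _ _ => .all _ _
  have hL : ∀ x y, L (x ⊗ₜ y) = D.t x * D.s y := fun x y => rfl
  have hbij : Function.Bijective L := by
    constructor
    · rw [injective_iff_map_eq_zero]
      intro z hz
      obtain ⟨S, rfl⟩ := TensorProduct.exists_finset z
      let e := (Fintype.equivFin S).symm
      rw [← S.sum_coe_sort, ← e.sum_comp] at hz ⊢
      let b : Unit → Fin (Fintype.card S) → D.A := fun _ i => (e i).1.2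
      have hx : (fun i => (e i).1.1) ∈ Kr D b ⊤ := by
        refine ⟨trivial, fun _ => ?_⟩
        rw [← hz, map_sum]
        exact Finset.sum_congr rfl fun i _ => mul_comm _ _
      obtain ⟨r, c, k, hk, hxe⟩ := exists_invariant_span hD hAc (inv_top.Kr hD b) hx
      have hkb : ∀ l, ∑ i, (⟨k l i, (hk l).2 i⟩ : K) • (e i).1.2 = 0 := fun l => by
        have := congrArg D.e ((hk l).1.2 ())
        rw [map_sum, map_zero] at this
        simp only [map_mul, e_s_apply, e_t_apply] at this
        rw [← this]
        exact Finset.sum_congr rfl fun i _ => mul_comm _ _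
      calc _ = ∑ i, (∑ l, (⟨k l i, (hk l).2 i⟩ : K) • c l) ⊗ₜ[K] (e i).1.2 := by
            refine Finset.sum_congr rfl fun i _ => ?_
            congr 1
            rw [show (e i).1.1 = _ from congrFun hxe i, Finset.sum_apply]
            exact Finset.sum_congr rfl fun l _ => mul_comm _ _
        _ = 0 := by
          simp only [TensorProduct.sum_tmul, TensorProduct.smul_tmul]
          rw [Finset.sum_comm]
          refine Finset.sum_eq_zero fun l _ => ?_
          rw [← TensorProduct.tmul_sum, hkb l, TensorProduct.tmul_zero]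
    · intro y
      induction hD.gen y using AddSubmonoid.closure_induction with
      | mem x hx => obtain ⟨a, a', rfl⟩ := hx; exact ⟨a ⊗ₜ a', hL a a'⟩
      | zero => exact ⟨0, map_zero L⟩
      | add x y _ _ hx hy =>
        obtain ⟨v, rfl⟩ := hx
        obtain ⟨w, rfl⟩ := hy
        exact ⟨v + w, map_add L v w⟩
  refine ⟨RingHom.flat_algebraMap_iff.2 (inferInstanceAs (Module.Flat K D.A)),
    PrimeSpectrum.comap_surjective_of_faithfullyFlat (A := K) (B := D.A), ?_⟩
  refine IsPushout.of_iso (CommRingCat.isPushout_tensorProduct K D.A D.A) (Iso.refl _) (Iso.refl _) (Iso.refl _)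
    (RingEquiv.ofBijective L.toRingHom hbij).toCommRingCatIso rfl rfl ?_ ?_
  · ext x
    show L (x ⊗ₜ 1) = D.t x
    rw [hL, map_one, mul_one]
  · ext y
    show L (1 ⊗ₜ y) = D.s y
    rw [hL, map_one, one_mul]

end Groth.Agent.ChevSp
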