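import Groth.Agent.ChevSp.Basic
import Mathlib.Algebra.TrivSqZeroExt.Basic
import Mathlib.RingTheory.Flat.FaithfullyFlat.Algebra

/-!
# Subquotients killed by an ideal modulo which the relation is a quotient
-/

set_option backward.isDefEq.respectTransparency false
set_option backward.isDefEq.respectTransparency.types false

universe u

open CategoryTheory TensorProduct
open Groth.Agent.GrpdThick

namespace Groth.Agent.ChevSp

theorem includeLeft_mul_includeRight {A R B : Type u} [CommRing A] [CommRing R] [CommRing B] [Algebra A R] [Algebra A B]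
    (x : R) (b : B) : (Algebra.TensorProduct.includeLeftRingHom x : R ⊗[A] B) *
      (Algebra.TensorProduct.includeRight (R := A) (A := R) b) = x ⊗ₜ b := by
  simp

/-- A relation among vectors over a pushout comes from one over the quotient relation, in a module killed
by the ideal. -/
theorem sum_tmul_eq_zero {A R B C A₀ : Type u} [CommRing A] [CommRing R] [CommRing B] [CommRing C] [CommRing A₀]
    (J : Ideal A) [Algebra A₀ (A ⧸ J)] {f : A →+* R} {g : A →+* B} {P₁ : R →+* C} {P₂ : B →+* C}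
    (sq : IsPushout (CommRingCat.ofHom f) (CommRingCat.ofHom g) (CommRingCat.ofHom P₁) (CommRingCat.ofHom P₂))
    (hg : g.Flat) {gb h : A ⧸ J →+* B ⧸ J.map g}
    (hgb : ∀ a, gb (Ideal.Quotient.mk J a) = Ideal.Quotient.mk _ (g a))
    (sq₀ : IsPushout (CommRingCat.ofHom (algebraMap A₀ (A ⧸ J))) (CommRingCat.ofHom (algebraMap A₀ (A ⧸ J)))
      (CommRingCat.ofHom gb) (CommRingCat.ofHom h))
    {κ : Type} [Fintype κ] (NR : Submodule R (κ → R))
    {M : Type u} [AddCommGroup M] [Module (A ⧸ J) M] [Module A₀ M] [IsScalarTower A₀ (A ⧸ J) M]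
    (ι : M →+ (κ → R) ⧸ NR) (hι : Function.Injective ι)
    (hιs : ∀ a m, ι (Ideal.Quotient.mk J a • m) = f a • ι m)
    {r : ℕ} (m : Fin r → M) (y : Fin r → A ⧸ J) (c : Fin r → κ → R) (b : Fin r → B)
    (hc : ∀ j, Submodule.Quotient.mk (c j) = ι (m j)) (hb : ∀ j, Ideal.Quotient.mk (J.map g) (b j) = h (y j))
    (h0 : (fun k => ∑ j, P₁ (c j k) * P₂ (b j)) ∈ ext P₁ NR) :
    ∑ j, m j ⊗ₜ[A₀] y j = 0 := by
  classical
  let := f.toAlgebra
  let := g.toAlgebra
  let W := (κ → R) ⧸ NR
  let R' := TrivSqZeroExt R W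
  let f' : A →+* R' := algebraMap A R'
  have sq' := CommRingCat.isPushout_tensorProduct A R' B
  let ι' : M →+ R' := (TrivSqZeroExt.inrHom R W).toAddMonoidHom.comp ι
  obtain ⟨Φ, hΦi, hΦ, -⟩ := exists_key J (R := R') (C := R' ⊗[A] B) (f := f') (g := g) sq' hg hgb sq₀ ι'
    (TrivSqZeroExt.inr_injective.comp hι) fun a m => by
      show TrivSqZeroExt.inr (ι (Ideal.Quotient.mk J a • m)) = TrivSqZeroExt.inl (f a) * TrivSqZeroExt.inr (ι m)
      rw [hιs, TrivSqZeroExt.inl_mul_inr]
  apply hΦi
  rw [map_zero, map_sum]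
  simp only [fun j => hΦ (m j) (y j) (b j) (hb j)]
  let inr' : W →ₗ[A] R' :=
    { toFun := TrivSqZeroExt.inr
      map_add' := TrivSqZeroExt.inr_add R
      map_smul' := fun a w => TrivSqZeroExt.inr_smul R a w }
  suffices h1 : ∑ j, (Submodule.Quotient.mk (c j) : W) ⊗ₜ[A] b j = 0 by
    have h2 := congrArg (inr'.rTensor B) h1
    rw [map_sum, map_zero] at h2
    rw [← h2]
    refine Finset.sum_congr rfl fun j _ => ?_
    rw [LinearMap.rTensor_tmul, hc]
    exact includeLeft_mul_includeRight (ι' (m j)) (b j)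
  let i := (CommRingCat.isPushout_tensorProduct A R B).isoIsPushout _ _ sq
  let eC : R ⊗[A] B ≃+* C := i.commRingCatIsoToRingEquiv
  have heC : ∀ x z, eC (x ⊗ₜ z) = P₁ x * P₂ z := fun x z => by
    have h1 := congrArg (fun φ => φ.hom x) ((CommRingCat.isPushout_tensorProduct A R B).inl_isoIsPushout_hom _ _ sq)
    have h2 := congrArg (fun φ => φ.hom z) ((CommRingCat.isPushout_tensorProduct A R B).inr_isoIsPushout_hom _ _ sq)
    show i.hom.hom (x ⊗ₜ z) = _
    rw [show x ⊗ₜ[A] z = (x ⊗ₜ[A] 1) * (1 ⊗ₜ z) by simp, map_mul]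
    exact congrArg₂ (· * ·) h1 h2
  let L : κ → R →ₗ[A] W := fun k =>
    ((Submodule.mkQ NR).restrictScalars A).comp (LinearMap.single A (fun _ : κ => R) k)
  let ψ : (κ → C) →+ W ⊗[A] B :=
    { toFun := fun v => ∑ k, (L k).rTensor B (eC.symm (v k))
      map_zero' := by simp
      map_add' := fun v w => by simp [Finset.sum_add_distrib] }
  have hψ : ∀ (v : κ → R) z, ψ (fun k => P₁ (v k) * P₂ z) = Submodule.Quotient.mk v ⊗ₜ z := fun v z => by
    show ∑ k, (L k).rTensor B (eC.symm (P₁ (v k) * P₂ z)) = _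
    simp only [← heC, RingEquiv.symm_apply_apply, LinearMap.rTensor_tmul, ← TensorProduct.sum_tmul]
    congr 1
    show ∑ k, Submodule.mkQ NR (Pi.single k (v k)) = Submodule.mkQ NR v
    rw [← map_sum, Finset.univ_sum_single]
  have hψ0 : ∀ x ∈ ext P₁ NR, ∀ d : C, ψ (d • x) = 0 := by
    intro x hx
    induction hx using Submodule.span_induction with
    | mem x hx =>
      obtain ⟨n, hn, rfl⟩ := hx
      intro d
      rw [← eC.apply_symm_apply d]
      induction eC.symm d using TensorProduct.induction_on with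
      | zero => rw [map_zero, zero_smul, map_zero]
      | tmul v z =>
        rw [show eC (v ⊗ₜ z) • (P₁ ∘ n) = fun k => P₁ ((v • n) k) * P₂ z from funext fun k => by
          show eC (v ⊗ₜ z) * P₁ (n k) = P₁ (v * n k) * P₂ z
          rw [heC, map_mul]; ring, hψ, show (Submodule.Quotient.mk (v • n) : W) = 0 from
            (Submodule.Quotient.mk_eq_zero _).2 (NR.smul_mem _ hn), TensorProduct.zero_tmul]
      | add v w hv hw => rw [map_add, add_smul, map_add, hv, hw, add_zero]
    | zero => intro d; rw [smul_zero, map_zero]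
    | add x x' _ _ hx hx' => intro d; rw [smul_add, map_add, hx, hx', add_zero]
    | smul d' x _ hx => intro d; rw [smul_smul]; exact hx _
  have := hψ0 _ h0 1
  rw [one_smul, show (fun k => ∑ j, P₁ (c j k) * P₂ (b j)) = ∑ j, fun k => P₁ (c j k) * P₂ (b j) from
    funext fun k => (Finset.sum_apply k _ fun j k => P₁ (c j k) * P₂ (b j)).symm, map_sum] at this
  simpa only [hψ] using this

set_option maxHeartbeats 800000 in
/-- Subquotients killed by an ideal modulo which the relation is a quotient are acyclic. -/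
theorem ac_of_isQuot {D : Rel.{u}} (hD : Good D) (I : Ideal D.A) (hI : I ≤ (I.map D.t).comap D.s)
    (hQ : (D.quot I hI).IsQuot) {κ : Type} [Fintype κ] (N₁ N₂ : Submodule D.A (κ → D.A))
    (hN₂ : Inv D N₂) (hkill : ∀ a ∈ I, ∀ n ∈ N₂, a • n ∈ N₁) : Ac D N₁ N₂ := by
  classical
  intro z hz hcoc
  obtain ⟨hflat, hsurj, hpo⟩ := hQ
  let A' := D.A ⧸ I
  let tb : A' →+* D.B ⧸ I.map D.t := Ideal.quotientMap _ D.t Ideal.le_comap_map
  let sb : A' →+* D.B ⧸ I.map D.t := Ideal.quotientMap _ D.s hI
  let K : Subring A' := sb.eqLocus tb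
  have hflatK : Module.Flat K A' := hflat
  have : Module.FaithfullyFlat K A' := Module.FaithfullyFlat.of_comap_surjective (A := K) (B := A') hsurj
  let W := (κ → D.B) ⧸ sp D N₁
  let M₀ : Submodule D.B W := (sp D N₂).map (sp D N₁).mkQ
  have hkB : ∀ b ∈ I.map D.t, ∀ v ∈ sp D N₂, b • v ∈ sp D N₁ := by
    intro b hb v hv
    induction hv using Submodule.span_induction with
    | mem x hx =>
      obtain ⟨n, hn, rfl⟩ := hx
      induction hb using Submodule.span_induction with
      | mem b hb =>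
        obtain ⟨a, ha, rfl⟩ := hb
        rw [show D.t a • (D.t ∘ n) = D.t ∘ (a • n) from funext fun k => (map_mul D.t _ _).symm]
        exact comp_mem_ext _ (hkill a ha n hn)
      | zero => rw [zero_smul]; exact zero_mem _
      | add x y _ _ hx hy => rw [add_smul]; exact add_mem hx hy
      | smul c x _ hx => rw [smul_assoc]; exact Submodule.smul_mem _ _ hx
    | zero => rw [smul_zero]; exact zero_mem _
    | add x y _ _ hx hy => rw [smul_add]; exact add_mem hx hy
    | smul c x _ hx => rw [smul_comm]; exact Submodule.smul_mem _ _ hx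
  have hT : Module.IsTorsionBySet D.B M₀ (I.map D.t : Set D.B) := by
    rintro ⟨_, v, hv, rfl⟩ ⟨b, hb⟩
    exact Subtype.ext ((Submodule.Quotient.mk_eq_zero _).2 (hkB b hb v hv))
  let : Module (D.B ⧸ I.map D.t) M₀ := hT.module
  let : Module A' M₀ := Module.compHom M₀ sb
  let : Module K M₀ := Module.compHom M₀ (sb.comp K.subtype)
  have : IsScalarTower K A' M₀ := ⟨fun k x v => by
    show sb ((k : A') * x) • v = sb k • (sb x • v)
    rw [map_mul, mul_smul]⟩
  -- coboundaries
  let Rd : Submodule K M₀ :=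
    { carrier := {x | ∃ n ∈ N₂, (x : W) = Submodule.Quotient.mk (cob D n)}
      zero_mem' := ⟨0, zero_mem _, by
        rw [show cob D (0 : κ → D.A) = 0 from funext fun k => by simp [cob]]
        exact ((sp D N₁).mkQ.map_zero).symm⟩
      add_mem' := by
        rintro x y ⟨n, hn, hx⟩ ⟨n', hn', hy⟩
        exact ⟨n + n', add_mem hn hn', by rw [cob_add, Submodule.Quotient.mk_add, ← hx, ← hy]; rfl⟩
      smul_mem' := by
        rintro k x ⟨n, hn, hx⟩
        obtain ⟨a, ha⟩ := Ideal.Quotient.mk_surjective (k : A')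
        refine ⟨a • n, N₂.smul_mem a hn, ?_⟩
        have e : ((k • x : M₀) : W) = Submodule.Quotient.mk (D.s a • cob D n) := by
          show ((sb (k : A') • x : M₀) : W) = _
          rw [← ha, Submodule.Quotient.mk_smul, ← hx]
          rfl
        rw [e, Submodule.Quotient.eq]
        have : D.s a • cob D n - cob D (a • n) = (D.s a - D.t a) • (D.t ∘ n) := funext fun i => by
          show D.s a * (D.t (n i) - D.s (n i)) - (D.t (a * n i) - D.s (a * n i)) = (D.s a - D.t a) * D.t (n i)
          rw [map_mul, map_mul]; ring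
        rw [this]
        refine hkB _ ?_ _ (comp_mem_ext _ hn)
        rw [← Ideal.Quotient.eq]
        have hk : sb (k : A') = tb (k : A') := k.2
        rw [← ha] at hk
        exact hk }
  -- the vectors
  obtain ⟨r, a, n, hn, rfl⟩ := exists_sum_of_mem_sp hD hz
  let a' : Fin r → A' := fun l => Ideal.Quotient.mk I (a l)
  let c : Fin r → κ → D.B := fun l => cob D (n l)
  let mz : M₀ := ⟨Submodule.Quotient.mk (∑ l, D.s (a l) • (D.t ∘ n l)), _, hz, rfl⟩
  let mc : Fin r → M₀ := fun l =>
    ⟨Submodule.Quotient.mk (c l), _, sub_mem (comp_mem_ext _ (hn l)) (hN₂ _ (hn l)), rfl⟩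
  let : Algebra K A' := K.subtype.toAlgebra
  have key := sum_tmul_eq_zero (A₀ := K) I D.sq₁.flip D.flat_t (gb := tb) (h := sb) (fun _ => rfl) hpo
    (sp D N₁) (M := M₀) M₀.subtype.toAddMonoidHom Subtype.val_injective (fun a m => rfl)
    (m := Fin.cons mz fun l => - mc l) (y := Fin.cons 1 a')
    (c := Fin.cons (∑ l, D.s (a l) • (D.t ∘ n l)) fun l => - c l)
    (b := Fin.cons 1 fun l => D.s (a l))
    (Fin.cases rfl fun l => by simp [mc, c]; rfl)
    (Fin.cases (by simp [sb]) fun l => rfl) (by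
      have hle : spC D N₁ ≤ ext D.p₁ (sp D N₁) :=
        ext_le fun v hv => comp_mem_ext D.p₁ (comp_mem_ext D.t hv)
      refine hle (Eq.subst (motive := fun v => v ∈ spC D N₁) (funext fun k => ?_) hcoc)
      rw [Fin.sum_univ_succ]
      simp only [Fin.cons_zero, Fin.cons_succ, Pi.neg_apply, map_one, mul_one, map_neg, neg_mul, Finset.sum_neg_distrib]
      have e : ∀ l, D.p₁ (c l k) * D.p₂ (D.s (a l)) =
          D.m (D.s (a l) * D.t (n l k)) - D.p₂ (D.s (a l) * D.t (n l k)) := fun l => by
        show D.p₁ (D.t (n l k) - D.s (n l k)) * D.p₂ (D.s (a l)) = _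
        rw [map_mul, map_mul, map_sub, show D.m (D.s (a l)) = D.p₂ (D.s (a l)) from RingHom.congr_fun D.m_s _,
          show D.m (D.t (n l k)) = D.p₁ (D.t (n l k)) from RingHom.congr_fun D.m_t _, w₂]
        ring
      rw [Finset.sum_congr rfl fun l _ => e l, Finset.sum_sub_distrib, ← map_sum, ← map_sum]
      simp only [coc, Pi.add_apply, Pi.sub_apply, Function.comp_apply, Finset.sum_apply, Pi.smul_apply, smul_eq_mul]
      ring)
  have hmem : mz ∈ Rd := by
    rw [← Rd.ker_mkQ, LinearMap.mem_ker]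
    apply Module.FaithfullyFlat.tensorProduct_mk_injective (A := K) (B := A') (M₀ ⧸ Rd)
    rw [TensorProduct.mk_apply, map_zero]
    have h0 := congrArg (TensorProduct.comm K _ _) (congrArg (Rd.mkQ.rTensor A') key)
    rw [map_sum, map_sum, map_zero, map_zero, Fin.sum_univ_succ] at h0
    simp only [LinearMap.rTensor_tmul, Fin.cons_zero, Fin.cons_succ, TensorProduct.comm_tmul] at h0
    rwa [Finset.sum_eq_zero (fun l _ => by
      rw [show Rd.mkQ (- mc l) = 0 from (Submodule.Quotient.mk_eq_zero _).2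
        (neg_mem ⟨n l, hn l, rfl⟩), TensorProduct.tmul_zero]), add_zero] at h0
  obtain ⟨v, hv, hve⟩ := hmem
  exact ⟨v, hv, (Submodule.Quotient.eq _).1 hve⟩

end Groth.Agent.ChevSp
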