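import Groth.Agent.ChevSp.Basic
import Groth.Agent.GrpdThick.NilQuot
import Mathlib.RingTheory.Etale.Descent

/-!
# Restrictions of relations which are quotients
-/

set_option backward.isDefEq.respectTransparency false
set_option backward.isDefEq.respectTransparency.types false

universe u

open CategoryTheory TensorProduct
open Groth.Agent.GrpdThick

namespace Groth.Agent.ChevSp

/-- The invariants and the comparison isomorphism of a relation which is a quotient. -/
theorem exists_equiv_of_isQuot (D : Rel.{u}) (hQ : D.IsQuot) :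
    Module.FaithfullyFlat (D.s.eqLocus D.t) D.A ∧
      ∃ e : D.A ⊗[D.s.eqLocus D.t] D.A ≃+* D.B, ∀ x y, e (x ⊗ₜ y) = D.t x * D.s y := by
  obtain ⟨hflat, hsurj, hpo⟩ := hQ
  let K := D.s.eqLocus D.t
  have : Module.Flat K D.A := hflat
  refine ⟨Module.FaithfullyFlat.of_comap_surjective (A := K) (B := D.A) hsurj, ?_⟩
  let : Algebra K D.A := K.subtype.toAlgebra
  let i := (CommRingCat.isPushout_tensorProduct K D.A D.A).isoIsPushout _ _ hpo
  refine ⟨i.commRingCatIsoToRingEquiv, fun x y => ?_⟩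
  have h1 := congrArg (fun φ => φ.hom x) ((CommRingCat.isPushout_tensorProduct K D.A D.A).inl_isoIsPushout_hom _ _ hpo)
  have h2 := congrArg (fun φ => φ.hom y) ((CommRingCat.isPushout_tensorProduct K D.A D.A).inr_isoIsPushout_hom _ _ hpo)
  show i.hom.hom (x ⊗ₜ y) = _
  rw [show x ⊗ₜ[K] y = (x ⊗ₜ[K] 1) * (1 ⊗ₜ y) by simp, map_mul]
  exact congrArg₂ (· * ·) h1 h2

/-- A quotient restricted to an invariant closed subscheme is a quotient. -/
theorem isQuot_of_surjective (D₁ D₂ : Rel.{u}) (hQ : D₁.IsQuot) (φ : D₁.A →+* D₂.A) (ψ : D₁.B →+* D₂.B)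
    (hφ : Function.Surjective φ) (hψ : Function.Surjective ψ) (ht : ∀ a, ψ (D₁.t a) = D₂.t (φ a))
    (hs : ∀ a, ψ (D₁.s a) = D₂.s (φ a)) (hker : RingHom.ker ψ ≤ (RingHom.ker φ).map D₁.t) : D₂.IsQuot := by
  obtain ⟨hff, e, he⟩ := exists_equiv_of_isQuot D₁ hQ
  let K := D₁.s.eqLocus D₁.t
  let f : K →+* D₂.A := φ.comp K.subtype
  have hf : ∀ c, D₂.t (f c) = D₂.s (f c) := fun c => by
    show D₂.t (φ c) = D₂.s (φ c)
    rw [← ht, ← hs, c.2]
  refine isQuot_of_model D₂ (R₀ := K) (R' := D₁.A) f hf φ (fun c => rfl) ?_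
  let := f.toAlgebra
  let : Algebra D₂.A D₂.B := D₂.t.toAlgebra
  let : Algebra K D₂.B := (D₂.t.comp f).toAlgebra
  have : IsScalarTower K D₂.A D₂.B := IsScalarTower.of_algebraMap_eq fun _ => rfl
  let sK : D₁.A →ₐ[K] D₂.B := { D₂.s.comp φ with commutes' := fun k => (hf k).symm }
  let Θ : D₂.A ⊗[K] D₁.A →ₐ[D₂.A] D₂.B :=
    Algebra.TensorProduct.lift (Algebra.ofId D₂.A D₂.B) sK fun _ _ => .all _ _
  have hΘ : ∀ a y, Θ (a ⊗ₜ y) = D₂.t a * D₂.s (φ y) := fun a y => rfl
  let φK : D₁.A →ₐ[K] D₂.A := { φ with commutes' := fun _ => rfl }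
  let π := Algebra.TensorProduct.map φK (AlgHom.id K D₁.A)
  have hdia : ∀ z, ψ (e z) = Θ (π z) := fun z => by
    induction z using TensorProduct.induction_on with
    | zero => simp
    | tmul x y =>
      rw [he, map_mul, ht, hs]
      exact (hΘ (φ x) y).symm
    | add x y hx hy => simp only [map_add, hx, hy]
  refine ⟨Θ.toRingHom, hΘ, ⟨(injective_iff_map_eq_zero Θ).2 fun z hz => ?_, fun b => ?_⟩⟩
  · obtain ⟨z, rfl⟩ := Algebra.TensorProduct.map_surjective φK (AlgHom.id K D₁.A) hφ (fun y => ⟨y, rfl⟩) z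
    have h1 : (RingHom.ker φ).map D₁.t ≤ RingHom.ker (π.toRingHom.comp e.symm.toRingHom) := by
      rw [Ideal.map_le_iff_le_comap]
      intro a ha
      show π (e.symm (D₁.t a)) = 0
      rw [show e.symm (D₁.t a) = a ⊗ₜ[K] 1 from e.symm_apply_eq.2 (by rw [he, map_one, mul_one]),
        Algebra.TensorProduct.map_tmul, show φK a = 0 from ha, TensorProduct.zero_tmul]
    have h2 : e z ∈ RingHom.ker ψ := by rw [RingHom.mem_ker, hdia]; exact hz
    have := h1 (hker h2)
    rw [RingHom.mem_ker] at this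
    rwa [show π.toRingHom.comp e.symm.toRingHom (e z) = π (e.symm (e z)) from rfl, e.symm_apply_apply] at this
  · obtain ⟨b, rfl⟩ := hψ b
    exact ⟨π (e.symm b), by show Θ _ = _; rw [← hdia, e.apply_symm_apply]⟩

theorem Good.quot {D : Rel.{u}} (hD : Good D) (I : Ideal D.A) (hI : I ≤ (I.map D.t).comap D.s) :
    Good (D.quot I hI) where
  inv := by
    obtain ⟨i, his, hit⟩ := hD.inv
    have hi : I.map D.t ≤ (I.map D.t).comap i := by
      rw [Ideal.map_le_iff_le_comap]
      intro a ha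
      show i (D.t a) ∈ I.map D.t
      rw [hit]
      exact hI ha
    refine ⟨Ideal.quotientMap _ i hi, fun a => ?_, fun a => ?_⟩
    · obtain ⟨a, rfl⟩ := Ideal.Quotient.mk_surjective a
      exact congrArg (Ideal.Quotient.mk (I.map D.t)) (his a)
    · obtain ⟨a, rfl⟩ := Ideal.Quotient.mk_surjective a
      exact congrArg (Ideal.Quotient.mk (I.map D.t)) (hit a)
  gen b := by
    obtain ⟨b, rfl⟩ := Ideal.Quotient.mk_surjective b
    induction hD.gen b using AddSubmonoid.closure_induction with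
    | mem x hx =>
      obtain ⟨a, a', rfl⟩ := hx
      refine AddSubmonoid.subset_closure ⟨Ideal.Quotient.mk I a, Ideal.Quotient.mk I a', ?_⟩
      exact map_mul (Ideal.Quotient.mk (I.map D.t)) _ _
    | zero => rw [map_zero]; exact zero_mem _
    | add x y _ _ hx hy => rw [map_add]; exact add_mem hx hy
  etale := etale_quot_t D hD.etale I

theorem isQuot_of_quot_bot {D : Rel.{u}} (h : (⊥ : Ideal D.A) ≤ ((⊥ : Ideal D.A).map D.t).comap D.s)
    (hQ : (D.quot ⊥ h).IsQuot) : D.IsQuot :=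
  isQuot_of_surjective (D.quot ⊥ h) D hQ (RingEquiv.quotientBot D.A).toRingHom
    (Ideal.Quotient.lift _ (RingHom.id D.B) fun b hb => by
      rwa [Ideal.map_bot, Ideal.mem_bot] at hb)
    (RingEquiv.quotientBot D.A).surjective (fun b => ⟨Ideal.Quotient.mk _ b, rfl⟩)
    (fun a => by obtain ⟨a, rfl⟩ := Ideal.Quotient.mk_surjective a; rfl)
    (fun a => by obtain ⟨a, rfl⟩ := Ideal.Quotient.mk_surjective a; rfl)
    fun b hb => by
      obtain ⟨b, rfl⟩ := Ideal.Quotient.mk_surjective b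
      have : b = 0 := hb
      rw [this, map_zero]
      exact zero_mem _

/-- The map to the base of an étale relation which is a quotient is étale. -/
theorem etale_subtype_of_isQuot {D : Rel.{u}} (ht : D.t.Etale) (hQ : D.IsQuot) :
    (D.s.eqLocus D.t).subtype.Etale := by
  obtain ⟨hff, e, he⟩ := exists_equiv_of_isQuot D hQ
  let K := D.s.eqLocus D.t
  let : Algebra D.A D.B := D.t.toAlgebra
  have : Algebra.Etale D.A D.B := ht
  let e' : D.A ⊗[K] D.A ≃ₐ[D.A] D.B := AlgEquiv.ofRingEquiv (f := e) fun a => by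
    show e (a ⊗ₜ 1) = D.t a
    rw [he, map_one, mul_one]
  have : Algebra.Etale D.A (D.A ⊗[K] D.A) := Algebra.Etale.of_equiv e'.symm
  have h : Algebra.Etale K D.A := Algebra.Etale.of_etale_tensorProduct_of_faithfullyFlat D.A
  exact RingHom.etale_algebraMap.2 h

end Groth.Agent.ChevSp
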