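import Groth.Agent.ChevSp.Basic
import Mathlib.RingTheory.TensorProduct.MvPolynomial
import Mathlib.RingTheory.RingHom.Etale
import Mathlib.Algebra.MvPolynomial.Monad

/-!
# The affine space over a relation
-/

set_option backward.isDefEq.respectTransparency false
set_option backward.isDefEq.respectTransparency.types false

universe u w

open CategoryTheory TensorProduct
open Groth.Agent.GrpdThick

namespace Groth.Agent.ChevSp

open MvPolynomial in
/-- A property stable under base change passes to polynomial rings. -/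
theorem map_of_isStableUnderBaseChange {P : ∀ {R S : Type u} [CommRing R] [CommRing S], (R →+* S) → Prop}
    (hP : RingHom.IsStableUnderBaseChange P) {A B : Type u} [CommRing A] [CommRing B] (f : A →+* B) (hf : P f)
    (σ : Type u) : P (MvPolynomial.map (σ := σ) f) := by
  let := f.toAlgebra
  let : Algebra (MvPolynomial σ A) (MvPolynomial σ B) := MvPolynomial.algebraMvPolynomial
  have : Algebra.IsPushout A B (MvPolynomial σ A) (MvPolynomial σ B) := inferInstance
  exact hP A B (MvPolynomial σ A) (MvPolynomial σ B) hf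

/-- The product of the objects with affine space, with the trivial action. -/
@[reducible] noncomputable def poly (D : Rel.{u}) (σ : Type u) : Rel.{u} where
  A := MvPolynomial σ D.A
  B := MvPolynomial σ D.B
  C := MvPolynomial σ D.C
  s := MvPolynomial.map D.s
  t := MvPolynomial.map D.t
  e := MvPolynomial.map D.e
  p₁ := MvPolynomial.map D.p₁
  p₂ := MvPolynomial.map D.p₂
  m := MvPolynomial.map D.m
  e_s := RingHom.ext fun p => by
    rw [RingHom.comp_apply, MvPolynomial.map_map, D.e_s, MvPolynomial.map_id]; rfl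
  e_t := RingHom.ext fun p => by
    rw [RingHom.comp_apply, MvPolynomial.map_map, D.e_t, MvPolynomial.map_id]; rfl
  m_t := RingHom.ext fun p => by
    rw [RingHom.comp_apply, RingHom.comp_apply, MvPolynomial.map_map, MvPolynomial.map_map, D.m_t]
  m_s := RingHom.ext fun p => by
    rw [RingHom.comp_apply, RingHom.comp_apply, MvPolynomial.map_map, MvPolynomial.map_map, D.m_s]
  flat_t := map_of_isStableUnderBaseChange RingHom.Flat.isStableUnderBaseChange D.t D.flat_t σ
  sq₁ := by
    have hw : D.p₂.comp D.t = D.p₁.comp D.s := RingHom.ext fun a => w₂ D a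
    let cB := CommRingCat.ofHom (MvPolynomial.C : D.B →+* MvPolynomial σ D.B)
    refine ⟨⟨CommRingCat.hom_ext <| RingHom.ext fun p => ?_⟩, ⟨?_⟩⟩
    · show MvPolynomial.map D.p₂ (MvPolynomial.map D.t p) = MvPolynomial.map D.p₁ (MvPolynomial.map D.s p)
      rw [MvPolynomial.map_map, MvPolynomial.map_map, hw]
    refine Limits.PushoutCocone.IsColimit.mk _
      (fun c => CommRingCat.ofHom (MvPolynomial.eval₂Hom (D.sq₁.desc (cB ≫ c.inl) (cB ≫ c.inr) ?_).hom
        fun i => c.inl.hom (MvPolynomial.X i))) ?_ ?_ ?_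
    · refine CommRingCat.hom_ext <| RingHom.ext fun a => ?_
      show c.inl.hom (MvPolynomial.C (D.t a)) = c.inr.hom (MvPolynomial.C (D.s a))
      rw [← MvPolynomial.map_C D.t, ← MvPolynomial.map_C D.s]
      exact congrArg (fun φ => φ.hom (MvPolynomial.C a)) c.condition
    · intro c
      refine CommRingCat.hom_ext <| MvPolynomial.ringHom_ext (fun b => ?_) fun i => ?_
      · show MvPolynomial.eval₂Hom _ _ (MvPolynomial.map D.p₂ (MvPolynomial.C b)) = _
        rw [MvPolynomial.map_C, MvPolynomial.eval₂Hom_C]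
        exact congrArg (fun φ => φ.hom b) (D.sq₁.inl_desc (cB ≫ c.inl) (cB ≫ c.inr) _)
      · show MvPolynomial.eval₂Hom _ _ (MvPolynomial.map D.p₂ (MvPolynomial.X i)) = _
        rw [MvPolynomial.map_X, MvPolynomial.eval₂Hom_X']
    · intro c
      refine CommRingCat.hom_ext <| MvPolynomial.ringHom_ext (fun b => ?_) fun i => ?_
      · show MvPolynomial.eval₂Hom _ _ (MvPolynomial.map D.p₁ (MvPolynomial.C b)) = _
        rw [MvPolynomial.map_C, MvPolynomial.eval₂Hom_C]
        exact congrArg (fun φ => φ.hom b) (D.sq₁.inr_desc (cB ≫ c.inl) (cB ≫ c.inr) _)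
      · show MvPolynomial.eval₂Hom _ _ (MvPolynomial.map D.p₁ (MvPolynomial.X i)) = _
        rw [MvPolynomial.map_X, MvPolynomial.eval₂Hom_X']
        have := congrArg (fun φ => φ.hom (MvPolynomial.X i)) c.condition
        simp only [CommRingCat.hom_comp, RingHom.comp_apply, CommRingCat.hom_ofHom, MvPolynomial.map_X] at this
        exact this
    · intro c l h₁ h₂
      refine CommRingCat.hom_ext <| MvPolynomial.ringHom_ext (fun b => ?_) fun i => ?_
      · rw [CommRingCat.hom_ofHom, MvPolynomial.eval₂Hom_C]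
        let cC := CommRingCat.ofHom (MvPolynomial.C : D.C →+* MvPolynomial σ D.C)
        refine congrArg (fun φ => φ.hom b) (D.sq₁.hom_ext ?_ ?_ : cC ≫ l = _)
        · refine Eq.trans ?_ (D.sq₁.inl_desc (cB ≫ c.inl) (cB ≫ c.inr) _).symm
          refine CommRingCat.hom_ext <| RingHom.ext fun a => ?_
          show l.hom (MvPolynomial.C (D.p₂ a)) = c.inl.hom (MvPolynomial.C a)
          rw [← MvPolynomial.map_C D.p₂, ← h₁]
          rfl
        · refine Eq.trans ?_ (D.sq₁.inr_desc (cB ≫ c.inl) (cB ≫ c.inr) _).symm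
          refine CommRingCat.hom_ext <| RingHom.ext fun a => ?_
          show l.hom (MvPolynomial.C (D.p₁ a)) = c.inr.hom (MvPolynomial.C a)
          rw [← MvPolynomial.map_C D.p₁, ← h₂]
          rfl
      · rw [CommRingCat.hom_ofHom, MvPolynomial.eval₂Hom_X', ← MvPolynomial.map_X D.p₂, ← h₁]
        rfl

theorem Good.poly {D : Rel.{u}} (hD : Good D) (σ : Type u) : Good (poly D σ) where
  inv := by
    obtain ⟨i, his, hit⟩ := hD.inv
    refine ⟨MvPolynomial.map i, fun p => ?_, fun p => ?_⟩
    · show MvPolynomial.map i (MvPolynomial.map D.s p) = MvPolynomial.map D.t p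
      rw [MvPolynomial.map_map, show i.comp D.s = D.t from RingHom.ext his]
    · show MvPolynomial.map i (MvPolynomial.map D.t p) = MvPolynomial.map D.s p
      rw [MvPolynomial.map_map, show i.comp D.t = D.s from RingHom.ext hit]
  gen b := by
    let S : Set (MvPolynomial σ D.B) := {x | ∃ a a', x = MvPolynomial.map D.t a * MvPolynomial.map D.s a'}
    show b ∈ AddSubmonoid.closure S
    induction b using MvPolynomial.induction_on with
    | C b =>
      induction hD.gen b using AddSubmonoid.closure_induction with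
      | mem x hx =>
        obtain ⟨a, a', rfl⟩ := hx
        exact AddSubmonoid.subset_closure ⟨MvPolynomial.C a, MvPolynomial.C a', by
          rw [MvPolynomial.map_C, MvPolynomial.map_C, map_mul]⟩
      | zero => rw [map_zero]; exact zero_mem _
      | add x y _ _ hx hy => rw [map_add]; exact add_mem hx hy
    | add p q hp hq => exact add_mem hp hq
    | mul_X p i hp =>
      induction hp using AddSubmonoid.closure_induction with
      | mem x hx =>
        obtain ⟨a, a', rfl⟩ := hx
        exact AddSubmonoid.subset_closure ⟨a * MvPolynomial.X i, a', by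
          rw [map_mul, MvPolynomial.map_X]; ring⟩
      | zero => rw [zero_mul]; exact zero_mem _
      | add x y _ _ hx hy => rw [add_mul]; exact add_mem hx hy
  etale := map_of_isStableUnderBaseChange RingHom.Etale.isStableUnderBaseChange D.t hD.etale σ

section Coeff

variable {A B : Type u} [CommRing A] [CommRing B] {σ : Type u} {κ : Type w} [Fintype κ]

/-- The relations modulo `J` of finitely many polynomials, with constant coefficients. -/
noncomputable def relSp (J : Ideal (MvPolynomial σ A)) (g : κ → MvPolynomial σ A) : Submodule A (κ → A) :=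
  LinearMap.ker (Fintype.linearCombination A fun k => Ideal.Quotient.mk J (g k))

theorem mk_sum_C_mul (J : Ideal (MvPolynomial σ A)) (g : κ → MvPolynomial σ A) (v : κ → A) :
    Fintype.linearCombination A (fun k => Ideal.Quotient.mk J (g k)) v =
      Ideal.Quotient.mk J (∑ k, MvPolynomial.C (v k) * g k) := by
  rw [Fintype.linearCombination_apply, map_sum]
  refine Finset.sum_congr rfl fun k _ => ?_
  rw [← MvPolynomial.smul_eq_C_mul]
  rfl

theorem mem_relSp {J : Ideal (MvPolynomial σ A)} {g : κ → MvPolynomial σ A} {v : κ → A} :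
    v ∈ relSp J g ↔ ∑ k, MvPolynomial.C (v k) * g k ∈ J := by
  rw [relSp, LinearMap.mem_ker, mk_sum_C_mul, Ideal.Quotient.eq_zero_iff_mem]

/-- The comparison with the base change of the quotient. -/
theorem exists_toTensor [Algebra A B] {X : Type u} [CommRing X] [Algebra A X] (q : MvPolynomial σ A →ₐ[A] X) :
    ∃ ψ : MvPolynomial σ B →+* B ⊗[A] X,
      (∀ b, ψ (MvPolynomial.C b) = b ⊗ₜ 1) ∧
      (∀ p, ψ (MvPolynomial.map (algebraMap A B) p) = 1 ⊗ₜ q p) ∧
      ∀ (J : Ideal (MvPolynomial σ A)), (∀ p ∈ J, q p = 0) →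
        ∀ f ∈ J.map (MvPolynomial.map (algebraMap A B)), ψ f = 0 := by
  let ψ : MvPolynomial σ B →+* B ⊗[A] X := MvPolynomial.eval₂Hom
    (Algebra.TensorProduct.includeLeftRingHom : B →+* B ⊗[A] X)
    fun i => (1 : B) ⊗ₜ[A] q (MvPolynomial.X i)
  have hψ : ψ.comp (MvPolynomial.map (algebraMap A B)) =
      (Algebra.TensorProduct.includeRight : X →ₐ[A] B ⊗[A] X).toRingHom.comp q.toRingHom := by
    refine MvPolynomial.ringHom_ext (fun a => ?_) fun i => ?_
    · rw [RingHom.comp_apply, MvPolynomial.map_C]
      simp only [ψ, MvPolynomial.eval₂Hom_C]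
      rw [show ((Algebra.TensorProduct.includeRight : X →ₐ[A] B ⊗[A] X).toRingHom.comp q.toRingHom) (MvPolynomial.C a) =
        algebraMap A (B ⊗[A] X) a from
          (congrArg Algebra.TensorProduct.includeRight (q.commutes a)).trans
            ((Algebra.TensorProduct.includeRight : X →ₐ[A] B ⊗[A] X).commutes a)]
      rfl
    · rw [RingHom.comp_apply, MvPolynomial.map_X]
      simp only [ψ, MvPolynomial.eval₂Hom_X']
      rfl
  refine ⟨ψ, fun b => ?_, fun p => RingHom.congr_fun hψ p, fun J hJ => ?_⟩
  · simp only [ψ, MvPolynomial.eval₂Hom_C]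
    rfl
  · have h0 : J.map (MvPolynomial.map (algebraMap A B)) ≤ RingHom.ker ψ := by
      rw [Ideal.map_le_iff_le_comap]
      intro p hp
      show ψ.comp (MvPolynomial.map (algebraMap A B)) p = 0
      rw [hψ, RingHom.comp_apply, show q.toRingHom p = 0 from hJ p hp, map_zero]
    exact fun f hf => RingHom.mem_ker.1 (h0 hf)

/-- Relations over a flat algebra come from relations. -/
theorem mem_ext_relSp (φ : A →+* B) (hφ : φ.Flat) (J : Ideal (MvPolynomial σ A)) (g : κ → MvPolynomial σ A)
    (μ : κ → B) (h : ∑ k, MvPolynomial.C (μ k) * MvPolynomial.map φ (g k) ∈ J.map (MvPolynomial.map φ)) :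
    μ ∈ ext φ (relSp J g) := by
  classical
  refine mem_ext_ker φ hφ _ μ ?_
  let := φ.toAlgebra
  obtain ⟨ψ, hC, hp, h0⟩ := exists_toTensor (B := B) (Ideal.Quotient.mkₐ A J)
  have h1 := h0 J (fun p hp => Ideal.Quotient.eq_zero_iff_mem.2 hp) _ h
  rw [map_sum] at h1
  rw [← h1]
  refine Finset.sum_congr rfl fun k _ => ?_
  rw [Fintype.linearCombination_apply_single, one_smul, map_mul, hC]
  refine Eq.trans ?_ (congrArg (_ * ·) (hp (g k))).symm
  rw [Algebra.TensorProduct.tmul_mul_tmul, mul_one, one_mul]
  rfl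

/-- Combinations with coefficients in the extension of the relations lie in the extended ideal. -/
theorem sum_mem_map (φ : A →+* B) (J : Ideal (MvPolynomial σ A)) (g : κ → MvPolynomial σ A) {μ : κ → B}
    (hμ : μ ∈ ext φ (relSp J g)) :
    ∑ k, MvPolynomial.C (μ k) * MvPolynomial.map φ (g k) ∈ J.map (MvPolynomial.map φ) := by
  induction hμ using Submodule.span_induction with
  | mem x hx =>
    obtain ⟨v, hv, rfl⟩ := hx
    rw [show ∑ k, MvPolynomial.C ((φ ∘ v) k) * MvPolynomial.map φ (g k) =
        MvPolynomial.map φ (∑ k, MvPolynomial.C (v k) * g k) by simp [map_sum]]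
    exact Ideal.mem_map_of_mem _ (mem_relSp.1 hv)
  | zero => simp
  | add x y _ _ hx hy =>
    simp only [Pi.add_apply, map_add, add_mul, Finset.sum_add_distrib]
    exact add_mem hx hy
  | smul c x _ hx =>
    simp only [Pi.smul_apply, smul_eq_mul, map_mul, mul_assoc, ← Finset.mul_sum]
    exact Ideal.mul_mem_left _ _ hx

/-- The extension of the part of an ideal in fewer variables. -/
theorem mem_map_comap_rename {τ : Type u} (e : τ → σ) (φ : A →+* B) (hφ : φ.Flat) (J : Ideal (MvPolynomial σ A))
    (f : MvPolynomial τ B) (hf : MvPolynomial.rename e f ∈ J.map (MvPolynomial.map φ)) :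
    f ∈ (J.comap (MvPolynomial.rename (R := A) e)).map (MvPolynomial.map φ) := by
  classical
  let g : f.support → MvPolynomial τ A := fun m => MvPolynomial.monomial m.1 1
  have hfe : f = ∑ m : f.support, MvPolynomial.C (MvPolynomial.coeff m.1 f) * MvPolynomial.map φ (g m) := by
    conv_lhs => rw [f.as_sum, ← f.support.sum_coe_sort]
    refine Finset.sum_congr rfl fun m _ => ?_
    rw [MvPolynomial.map_monomial, map_one, MvPolynomial.C_mul_monomial, mul_one]
  rw [hfe]
  refine sum_mem_map φ _ g ?_
  rw [show relSp (J.comap (MvPolynomial.rename (R := A) e)) g = relSp J (fun m => MvPolynomial.rename e (g m)) by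
    ext v
    simp [mem_relSp]]
  refine mem_ext_relSp φ hφ _ _ _ ?_
  convert hf using 1
  conv_rhs => rw [hfe, map_sum]
  refine Finset.sum_congr rfl fun m _ => ?_
  rw [map_mul, MvPolynomial.rename_C, MvPolynomial.map_rename]

theorem relSp_inv {D : Rel.{u}} {σ : Type u} {κ : Type} [Fintype κ] (J : Ideal (MvPolynomial σ D.A))
    (hJ : J ≤ (J.map (MvPolynomial.map D.t)).comap (MvPolynomial.map D.s)) (g : κ → MvPolynomial σ D.A)
    (hg : ∀ k, MvPolynomial.map D.s (g k) = MvPolynomial.map D.t (g k)) : Inv D (relSp J g) := fun v hv =>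
  mem_ext_relSp D.t D.flat_t J g _ <| by
    rw [show ∑ k, MvPolynomial.C ((D.s ∘ v) k) * MvPolynomial.map D.t (g k) =
        MvPolynomial.map D.s (∑ k, MvPolynomial.C (v k) * g k) by simp [map_sum, hg]]
    exact hJ (mem_relSp.1 hv)

end Coeff

end Groth.Agent.ChevSp
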