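import Groth.Agent.ChevSp.Crit
import Groth.Agent.ChevSp.Killed
import Groth.Agent.ChevSp.Morph
import Groth.Agent.ChevSp.Poly
import Groth.Agent.S9407
import Mathlib.RingTheory.Smooth.Basic
import Mathlib.RingTheory.Etale.Basic

/-!
# Invariant ideals of a relation and combinations of monomials
-/

set_option backward.isDefEq.respectTransparency false
set_option backward.isDefEq.respectTransparency.types false

universe u w

open CategoryTheory TensorProduct
open Groth.Agent.GrpdThick

namespace Groth.Agent.ChevSp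

variable {D : Rel.{u}}

variable (D) in
/-- An invariant ideal. -/
def InvI (I : Ideal D.A) : Prop := I ≤ (I.map D.t).comap D.s

theorem InvI.mul {I I' : Ideal D.A} (h : InvI D I) (h' : InvI D I') : InvI D (I * I') := by
  unfold InvI
  rw [Ideal.mul_le, Ideal.map_mul]
  intro a ha b hb
  show D.s (a * b) ∈ I.map D.t * I'.map D.t
  rw [map_mul]
  exact Ideal.mul_mem_mul (h ha) (h' hb)

theorem invI_top : InvI D ⊤ := fun a _ => by
  show D.s a ∈ (⊤ : Ideal D.A).map D.t
  rw [Ideal.map_top]
  trivial

theorem invI_bot : InvI D ⊥ := bot_le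

section Ext

variable {A B : Type u} [CommRing A] [CommRing B] {κ : Type w}

theorem smul_mem_ext (φ : A →+* B) {c : Ideal A} {N N' : Submodule A (κ → A)}
    (h : ∀ a ∈ c, ∀ n ∈ N, a • n ∈ N') {x : B} (hx : x ∈ c.map φ) {v : κ → B} (hv : v ∈ ext φ N) :
    x • v ∈ ext φ N' := by
  induction hv using Submodule.span_induction with
  | mem y hy =>
    obtain ⟨n, hn, rfl⟩ := hy
    induction hx using Submodule.span_induction with
    | mem b hb =>
      obtain ⟨a, ha, rfl⟩ := hb
      rw [show φ a • (φ ∘ n) = φ ∘ (a • n) from funext fun k => (map_mul φ _ _).symm]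
      exact comp_mem_ext _ (h a ha n hn)
    | zero => rw [zero_smul]; exact zero_mem _
    | add x y _ _ hx hy => rw [add_smul]; exact add_mem hx hy
    | smul c x _ hx => rw [smul_assoc]; exact Submodule.smul_mem _ _ hx
  | zero => rw [smul_zero]; exact zero_mem _
  | add x y _ _ hx hy => rw [smul_add]; exact add_mem hx hy
  | smul c x _ hx => rw [smul_comm]; exact Submodule.smul_mem _ _ hx

theorem apply_mem_map_of_mem_ext (φ : A →+* B) {N : Submodule A (κ → A)} {μ : κ → B} (hμ : μ ∈ ext φ N) (k : κ) :
    μ k ∈ Ideal.map φ (N.map (LinearMap.proj k : (κ → A) →ₗ[A] A)) := by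
  induction hμ using Submodule.span_induction with
  | mem x hx => obtain ⟨n, hn, rfl⟩ := hx; exact Ideal.mem_map_of_mem _ ⟨n, hn, rfl⟩
  | zero => exact zero_mem _
  | add x y _ _ hx hy => exact add_mem hx hy
  | smul c x _ hx => exact Ideal.mul_mem_left _ _ hx

theorem mem_ext_pi [Fintype κ] (φ : A →+* B) (J : Ideal A) {μ : κ → B} (h : ∀ k, μ k ∈ J.map φ) :
    μ ∈ ext φ (Submodule.pi Set.univ fun _ : κ => (J : Submodule A A)) := by
  classical
  rw [← Finset.univ_sum_single μ]
  refine Submodule.sum_mem _ fun k _ => ?_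
  have hk := h k
  generalize μ k = x at hk
  induction hk using Submodule.span_induction with
  | mem x hx =>
    obtain ⟨a, ha, rfl⟩ := hx
    rw [show Pi.single k (φ a) = φ ∘ Pi.single k a from funext fun j => (Pi.apply_single (fun _ => φ) (fun _ => map_zero φ) k a j).symm]
    refine comp_mem_ext _ fun j _ => ?_
    rcases eq_or_ne j k with rfl | hj
    · simpa using ha
    · simp [hj]
  | zero => simp
  | add x y _ _ hx hy => rw [Pi.single_add]; exact add_mem hx hy
  | smul c x _ hx => rw [Pi.single_smul]; exact Submodule.smul_mem _ _ hx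

theorem apply_mem_of_mem_ext_pi (φ : A →+* B) {J : Ideal A} {μ : κ → B}
    (h : μ ∈ ext φ (Submodule.pi Set.univ fun _ : κ => (J : Submodule A A))) (k : κ) : μ k ∈ J.map φ := by
  induction h using Submodule.span_induction with
  | mem x hx => obtain ⟨n, hn, rfl⟩ := hx; exact Ideal.mem_map_of_mem _ (hn k trivial)
  | zero => exact zero_mem _
  | add x y _ _ hx hy => exact add_mem hx hy
  | smul c x _ hx => exact Ideal.mul_mem_left _ _ hx

end Ext

theorem inv_smul {c : Ideal D.A} (hc : InvI D c) {κ : Type} {M : Submodule D.A (κ → D.A)} (hM : Inv D M) :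
    Inv D (c • M) := fun n hn => by
  refine Submodule.smul_induction_on hn (fun a ha m hm => ?_) fun x y hx hy => ?_
  · rw [show D.s ∘ (a • m) = D.s a • (D.s ∘ m) from funext fun k => map_mul D.s _ _]
    exact smul_mem_ext D.t (fun b hb v hv => Submodule.smul_mem_smul hb hv) (hc ha) (hM m hm)
  · rw [show D.s ∘ (x + y) = D.s ∘ x + D.s ∘ y from funext fun k => map_add D.s _ _]
    exact add_mem hx hy

/-- Two invariant ideals with product zero modulo which the relation is a quotient. -/
theorem isQuot_of_mul_eq_bot (hD : Good D) {a b : Ideal D.A} (ha : InvI D a) (hb : InvI D b)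
    (hQa : (D.quot a ha).IsQuot) (hQb : (D.quot b hb).IsQuot) (hab : a * b = ⊥) : D.IsQuot := by
  refine isQuot_of_ac hD fun κ _ M hM => ?_
  refine Ac.trans (N₂ := b • M) bot_le Submodule.smul_le_right ?_
    (ac_of_isQuot hD b hb hQb _ _ hM fun x hx n hn => Submodule.smul_mem_smul hx hn)
  refine ac_of_isQuot hD a ha hQa _ _ (inv_smul hb hM) fun x hx n hn => ?_
  have : x • n ∈ a • b • M := Submodule.smul_mem_smul hx hn
  rwa [← Submodule.mul_smul, hab, Submodule.bot_smul] at this

theorem isReduced_quot (hD : Good D) :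
    IsReduced (D.B ⧸ (nilradical D.A).map D.t) := by
  let N := nilradical D.A
  let tb : D.A ⧸ N →+* D.B ⧸ N.map D.t := Ideal.quotientMap _ D.t Ideal.le_comap_map
  have h : tb.Etale := etale_quot_t D hD.etale N
  let := tb.toAlgebra
  have : Algebra.Etale (D.A ⧸ N) (D.B ⧸ N.map D.t) := h
  have : IsReduced (D.A ⧸ N) :=
    (Ideal.isRadical_iff_quotient_reduced N).1 (Ideal.radical_isRadical ⊥)
  exact Groth.Agent.S9407.result (D.A ⧸ N) (D.B ⧸ N.map D.t)

theorem invI_nilradical (hD : Good D) : InvI D (nilradical D.A) := fun a ha => by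
  have := isReduced_quot hD
  rw [Ideal.mem_comap, ← Ideal.Quotient.eq_zero_iff_mem]
  exact (((mem_nilradical.1 ha).map D.s).map (Ideal.Quotient.mk _)).eq_zero

/-- An étale relation which is a quotient modulo the nilradical is a quotient. -/
theorem isQuot_of_nilradical (hD : Good D) (hQ : (D.quot (nilradical D.A) (invI_nilradical hD)).IsQuot) :
    D.IsQuot := by
  have hπ := etale_subtype_of_isQuot (hD.quot _ (invI_nilradical hD)).etale hQ
  obtain ⟨h₁, h₂, h₃⟩ := hQ
  exact isQuot_of_nil D (nilradical D.A) le_rfl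
    { A₀ := _, π₀ := _, inv := invI_nilradical hD, flat := h₁, surjective := h₂, sq₀ := h₃ } hπ hD.etale

section Comb

variable {σ : Type u} {τ κ : Type} [Fintype τ]

/-- Vectors of combinations of monomials. -/
noncomputable def comb {R : Type u} [CommRing R] (m : τ → σ →₀ ℕ) (v : τ × κ → R) : κ → MvPolynomial σ R :=
  fun j => ∑ k, MvPolynomial.monomial (m k) (v (k, j))

theorem comb_comp {R S : Type u} [CommRing R] [CommRing S] (f : R →+* S) (m : τ → σ →₀ ℕ) (v : τ × κ → R) :
    MvPolynomial.map f ∘ comb m v = comb m (f ∘ v) := funext fun j => by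
  simp [comb, map_sum, MvPolynomial.map_monomial]

theorem comb_add {R : Type u} [CommRing R] (m : τ → σ →₀ ℕ) (v w : τ × κ → R) :
    comb m (v + w) = comb m v + comb m w := funext fun j => by
  simp [comb, Finset.sum_add_distrib]

theorem comb_sub {R : Type u} [CommRing R] (m : τ → σ →₀ ℕ) (v w : τ × κ → R) :
    comb m (v - w) = comb m v - comb m w := funext fun j => by
  simp [comb, Finset.sum_sub_distrib]

theorem comb_zero {R : Type u} [CommRing R] (m : τ → σ →₀ ℕ) : comb m (0 : τ × κ → R) = 0 := funext fun j => by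
  simp [comb]

theorem comb_smul {R : Type u} [CommRing R] (m : τ → σ →₀ ℕ) (c : R) (v : τ × κ → R) :
    comb m (c • v) = (MvPolynomial.C c : MvPolynomial σ R) • comb m v := funext fun j => by
  simp [comb, Finset.mul_sum, MvPolynomial.C_mul_monomial]

theorem comb_coc (m : τ → σ →₀ ℕ) (z : τ × κ → D.B) :
    coc (poly D σ) (comb m z) = comb m (coc D z) := by
  show MvPolynomial.map D.p₁ ∘ comb m z + MvPolynomial.map D.p₂ ∘ comb m z - MvPolynomial.map D.m ∘ comb m z = _
  rw [comb_comp, comb_comp, comb_comp, ← comb_add, ← comb_sub]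
  rfl

theorem comb_cob (m : τ → σ →₀ ℕ) (v : τ × κ → D.A) :
    cob (poly D σ) (comb m v) = comb m (cob D v) := by
  show MvPolynomial.map D.t ∘ comb m v - MvPolynomial.map D.s ∘ comb m v = _
  rw [comb_comp, comb_comp, ← comb_sub]
  rfl

theorem comb_mem_ext {A B : Type u} [CommRing A] [CommRing B] (φ : A →+* B) (m : τ → σ →₀ ℕ)
    {N : Submodule A (τ × κ → A)} {P : Submodule (MvPolynomial σ A) (κ → MvPolynomial σ A)}
    (h : ∀ v ∈ N, comb m v ∈ P) {z : τ × κ → B} (hz : z ∈ ext φ N) :
    comb m z ∈ ext (MvPolynomial.map φ) P := by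
  induction hz using Submodule.span_induction with
  | mem x hx =>
    obtain ⟨v, hv, rfl⟩ := hx
    rw [← comb_comp]
    exact comp_mem_ext _ (h v hv)
  | zero => rw [comb_zero]; exact zero_mem _
  | add x y _ _ hx hy => rw [comb_add]; exact add_mem hx hy
  | smul c x _ hx => rw [comb_smul]; exact Submodule.smul_mem _ _ hx

end Comb

end Groth.Agent.ChevSp
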