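import Groth.Agent.ChevSp.DevLib

/-!
# Dévissage along a finite invariant cover
-/

set_option backward.isDefEq.respectTransparency false
set_option backward.isDefEq.respectTransparency.types false

universe u

open CategoryTheory TensorProduct
open Groth.Agent.GrpdThick

namespace Groth.Agent.ChevSp

variable {D : Rel.{u}}

theorem invI_map_proj {κ : Type} {N : Submodule D.A (κ → D.A)} (hN : Inv D N) (k : κ) :
    InvI D (N.map (LinearMap.proj k : (κ → D.A) →ₗ[D.A] D.A)) := by
  intro a ha
  obtain ⟨v, hv, rfl⟩ := ha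
  exact apply_mem_map_of_mem_ext D.t (hN v hv) k

theorem exists_spanning {A : Type u} [CommRing A] {σ : Type u} (J : Ideal (MvPolynomial σ A))
    (hfin : ((Ideal.Quotient.mk J).comp (MvPolynomial.C (σ := σ))).Finite) :
    ∃ (N : ℕ) (m : Fin N → σ →₀ ℕ), ∀ p, ∃ w : Fin N → A,
      p - ∑ k, MvPolynomial.C (w k) * MvPolynomial.monomial (m k) 1 ∈ J := by
  classical
  have : Module.Finite A (MvPolynomial σ A ⧸ J) := RingHom.finite_algebraMap.1 hfin
  obtain ⟨G, hG⟩ := Module.Finite.fg_top (R := A) (M := MvPolynomial σ A ⧸ J)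
  choose l hl using fun x : MvPolynomial σ A ⧸ J => Ideal.Quotient.mk_surjective x
  let G' := G.biUnion fun x => (l x).support
  refine ⟨_, fun k => (G'.equivFin.symm k).1, fun p => ?_⟩
  let S : Submodule A (MvPolynomial σ A ⧸ J) := Submodule.span A
    (Set.range fun k => Ideal.Quotient.mk J (MvPolynomial.monomial (G'.equivFin.symm k).1 1))
  have hS : Ideal.Quotient.mk J p ∈ S := by
    refine (show (⊤ : Submodule A _) ≤ S from ?_) trivial
    rw [← hG, Submodule.span_le]
    intro x hx
    rw [← hl x, (l x).as_sum, map_sum]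
    refine Submodule.sum_mem _ fun d hd => ?_
    rw [show Ideal.Quotient.mk J (MvPolynomial.monomial d (MvPolynomial.coeff d (l x))) =
        MvPolynomial.coeff d (l x) • Ideal.Quotient.mk J (MvPolynomial.monomial d 1) by
      rw [← Ideal.Quotient.mkₐ_eq_mk A, ← map_smul, MvPolynomial.smul_monomial, smul_eq_mul, mul_one]]
    refine S.smul_mem _ (Submodule.subset_span ⟨G'.equivFin ⟨d, Finset.mem_biUnion.2 ⟨x, hx, hd⟩⟩, ?_⟩)
    simp
  obtain ⟨w, hw⟩ := (Submodule.mem_span_range_iff_exists_fun A).1 hS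
  refine ⟨w, ?_⟩
  rw [← Ideal.Quotient.eq_zero_iff_mem, map_sub, sub_eq_zero, ← hw, map_sum]
  refine Finset.sum_congr rfl fun k _ => ?_
  rw [← MvPolynomial.smul_eq_C_mul]
  rfl

set_option maxHeartbeats 1000000 in
/-- An independent family of monomials spanning the cover up to a nonzero invariant ideal. -/
theorem exists_family (σ : Type u) (J : Ideal (MvPolynomial σ D.A)) (hJ : InvI (poly D σ) J)
    (hfin : ((Ideal.Quotient.mk J).comp (MvPolynomial.C (σ := σ))).Finite) [Nontrivial D.A]
    (hinj : ∀ a : D.A, MvPolynomial.C a ∈ J → a = 0)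
    (hprod : ∀ a b : Ideal D.A, InvI D a → InvI D b → a ≠ ⊥ → b ≠ ⊥ → a * b ≠ ⊥) :
    ∃ (τ : Type) (_ : Fintype τ) (m : τ → σ →₀ ℕ) (_ : τ) (c : Ideal D.A), InvI D c ∧ c ≠ ⊥ ∧
      relSp J (fun k => MvPolynomial.monomial (m k) (1 : D.A)) = ⊥ ∧
      ∀ a ∈ c, ∀ p, ∃ w : τ → D.A,
        MvPolynomial.C a * p - ∑ k, MvPolynomial.C (w k) * MvPolynomial.monomial (m k) 1 ∈ J := by
  classical
  -- spanning monomials
  obtain ⟨N, m, hm⟩ := exists_spanning J hfin
  let g : Fin N → MvPolynomial σ D.A := fun k => MvPolynomial.monomial (m k) 1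
  have hg : ∀ k, MvPolynomial.map D.s (g k) = MvPolynomial.map D.t (g k) := fun k => by
    simp [g, MvPolynomial.map_monomial]
  -- a maximal independent family
  let Indep : Finset (Fin N) → Prop := fun T => relSp J (fun k : T => g k.1) = ⊥
  have hempty : Indep ∅ := eq_bot_iff.2 fun v _ => (Submodule.mem_bot _).2 (funext fun k => absurd k.2 (Finset.notMem_empty _))
  obtain ⟨T, hT, hmax⟩ := Finset.exists_max_image ((Finset.univ : Finset (Finset (Fin N))).filter Indep)
    Finset.card ⟨∅, Finset.mem_filter.2 ⟨Finset.mem_univ _, hempty⟩⟩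
  replace hT : Indep T := (Finset.mem_filter.1 hT).2
  let L : Submodule D.A (MvPolynomial σ D.A) :=
    J.restrictScalars D.A ⊔ Submodule.span D.A (Set.range fun k : T => g k.1)
  let cK : Fin N → Ideal D.A := fun k => (relSp J fun j : ↥(insert k T) => g j.1).map
    (LinearMap.proj ⟨k, Finset.mem_insert_self k T⟩ : (↥(insert k T) → D.A) →ₗ[D.A] D.A)
  have hcK : ∀ k, InvI D (cK k) := fun k =>
    invI_map_proj (N := relSp J fun j : ↥(insert k T) => g j.1) (relSp_inv J hJ _ fun j => hg j.1) _
  have hcK0 : ∀ k ∉ T, cK k ≠ ⊥ := fun k hk h0 => by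
    have hlt : T.card < (insert k T).card := by rw [Finset.card_insert_of_notMem hk]; exact Nat.lt_succ_self _
    have hind : Indep (insert k T) → False := fun h => by
      have := hmax (insert k T) (Finset.mem_filter.2 ⟨Finset.mem_univ _, h⟩)
      omega
    refine hind (eq_bot_iff.2 fun v hv => ?_)
    let v' : Fin N → D.A := fun j => if h : j ∈ insert k T then v ⟨j, h⟩ else 0
    have hv'' : ∀ j : ↥(insert k T), v' j.1 = v j := fun j => dif_pos j.2
    have hk0 : v' k = 0 := by
      rw [show v' k = v ⟨k, Finset.mem_insert_self k T⟩ from hv'' ⟨k, _⟩]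
      exact (Submodule.mem_bot D.A).1 (h0 ▸ ⟨v, hv, rfl⟩ : v ⟨k, _⟩ ∈ (⊥ : Ideal D.A))
    have hw : (fun j : T => v' j.1) ∈ relSp J (fun j : T => g j.1) := by
      rw [mem_relSp, Finset.sum_coe_sort T (fun j => MvPolynomial.C (v' j) * g j)]
      have h1 := mem_relSp.1 hv
      rw [Finset.sum_congr rfl (fun j _ => by rw [← hv'' j]),
        Finset.sum_coe_sort (insert k T) (fun j => MvPolynomial.C (v' j) * g j), Finset.sum_insert hk, hk0] at h1
      simpa using h1
    rw [hT, Submodule.mem_bot] at hw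
    rw [Submodule.mem_bot]
    funext j
    rw [← hv'' j]
    rcases Finset.mem_insert.1 j.2 with hj | hj
    · rw [hj]; exact hk0
    · exact congrFun hw ⟨j.1, hj⟩
  let c : Ideal D.A := ∏ k ∈ Tᶜ, cK k
  obtain ⟨hc, hc0⟩ : InvI D c ∧ c ≠ ⊥ := by
    have : ∀ S : Finset (Fin N), (∀ k ∈ S, k ∉ T) → InvI D (∏ k ∈ S, cK k) ∧ ∏ k ∈ S, cK k ≠ ⊥ := fun S => by
      induction S using Finset.induction_on with
      | empty =>
        intro _
        rw [Finset.prod_empty, Ideal.one_eq_top]
        exact ⟨invI_top, top_ne_bot⟩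
      | insert k S hk ih =>
        intro h
        rw [Finset.prod_insert hk]
        obtain ⟨h1, h2⟩ := ih fun j hj => h j (Finset.mem_insert_of_mem hj)
        exact ⟨(hcK k).mul h1, hprod _ _ (hcK k) h1 (hcK0 k (h k (Finset.mem_insert_self k S))) h2⟩
    exact this _ fun k hk => Finset.mem_compl.1 hk
  have hcL : ∀ a ∈ c, ∀ p : MvPolynomial σ D.A, MvPolynomial.C a * p ∈ L := fun a ha p => by
    have hgk : ∀ k, MvPolynomial.C a * g k ∈ L := fun k => by
      by_cases hk : k ∈ T
      · rw [← MvPolynomial.smul_eq_C_mul]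
        exact L.smul_mem a (Submodule.mem_sup_right (Submodule.subset_span ⟨⟨k, hk⟩, rfl⟩))
      · have hck : a ∈ cK k := by
          have : c ≤ cK k := by
            show ∏ j ∈ Tᶜ, cK j ≤ cK k
            rw [← Finset.mul_prod_erase _ _ (Finset.mem_compl.2 hk)]
            exact Ideal.mul_le_left
          exact this ha
        obtain ⟨v, hv, rfl⟩ := hck
        let v' : Fin N → D.A := fun j => if h : j ∈ insert k T then v ⟨j, h⟩ else 0
        have hv'' : ∀ j : ↥(insert k T), v' j.1 = v j := fun j => dif_pos j.2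
        have h1 := mem_relSp.1 hv
        rw [Finset.sum_congr rfl (fun j _ => by rw [← hv'' j]),
          Finset.sum_coe_sort (insert k T) (fun j => MvPolynomial.C (v' j) * g j), Finset.sum_insert hk] at h1
        show MvPolynomial.C (v ⟨k, _⟩) * g k ∈ L
        rw [show v ⟨k, Finset.mem_insert_self k T⟩ = v' k from (hv'' ⟨k, _⟩).symm,
          show MvPolynomial.C (v' k) * g k =
            (MvPolynomial.C (v' k) * g k + ∑ j ∈ T, MvPolynomial.C (v' j) * g j) -
              ∑ j ∈ T, MvPolynomial.C (v' j) * g j from (add_sub_cancel_right _ _).symm]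
        refine sub_mem (Submodule.mem_sup_left h1) (Submodule.sum_mem _ fun j hj => ?_)
        rw [← MvPolynomial.smul_eq_C_mul]
        exact L.smul_mem _ (Submodule.mem_sup_right (Submodule.subset_span ⟨⟨j, hj⟩, rfl⟩))
    obtain ⟨w, hw⟩ := hm p
    rw [show MvPolynomial.C a * p = MvPolynomial.C a * (p - ∑ k, MvPolynomial.C (w k) * g k) +
      ∑ k, MvPolynomial.C (w k) * (MvPolynomial.C a * g k) by
        rw [mul_sub, Finset.mul_sum, Finset.sum_congr rfl fun k _ => mul_left_comm (MvPolynomial.C a) _ _]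
        abel]
    refine add_mem (Submodule.mem_sup_left (Ideal.mul_mem_left _ _ hw)) (Submodule.sum_mem _ fun k _ => ?_)
    rw [← MvPolynomial.smul_eq_C_mul]
    exact L.smul_mem _ (hgk k)
  -- the family is not empty
  have hne : Nonempty T := by
    by_contra hT0
    rw [not_nonempty_iff] at hT0
    refine hc0 (eq_bot_iff.2 fun a ha => (Ideal.mem_bot).2 (hinj a ?_))
    have := hcL a ha 1
    rw [mul_one, show L = J.restrictScalars D.A by simp [L, Set.range_eq_empty]] at this
    exact this
  obtain ⟨k₀⟩ := hne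
  refine ⟨T, inferInstance, fun k => m k.1, k₀, c, hc, hc0, hT, fun a ha p => ?_⟩
  obtain ⟨q, hq, r, hr, hqr⟩ := Submodule.mem_sup.1 (hcL a ha p)
  obtain ⟨w, rfl⟩ := (Submodule.mem_span_range_iff_exists_fun D.A).1 hr
  refine ⟨w, ?_⟩
  rw [← hqr, Finset.sum_congr rfl fun k _ => MvPolynomial.smul_eq_C_mul _ _, add_sub_cancel_right]
  exact hq

/-- The vectors of the cover coming from `c • M`, and the vectors of the ideal. -/
noncomputable def coverSp {σ : Type u} (J : Ideal (MvPolynomial σ D.A)) (c : Ideal D.A) {κ : Type}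
    (M : Submodule D.A (κ → D.A)) : Submodule (MvPolynomial σ D.A) (κ → MvPolynomial σ D.A) :=
  Submodule.span _ {y | ∃ a ∈ c, ∃ n ∈ M, y = fun j => MvPolynomial.C a * MvPolynomial.C (n j)} ⊔
    Submodule.pi Set.univ fun _ : κ => (J : Submodule _ _)

/-- The vectors of combinations lying over `M` and in the cover of `c • M`. -/
noncomputable def coverLift {σ : Type u} (J : Ideal (MvPolynomial σ D.A)) (c : Ideal D.A) {τ κ : Type}
    [Fintype τ] (m : τ → σ →₀ ℕ) (M : Submodule D.A (κ → D.A)) : Submodule D.A (τ × κ → D.A) where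
  carrier := {v | v ∈ power D τ M ∧ comb m v ∈ coverSp J c M}
  zero_mem' := ⟨zero_mem _, by rw [comb_zero]; exact zero_mem _⟩
  add_mem' := fun {v w} hv hw => ⟨add_mem hv.1 hw.1, by rw [comb_add]; exact add_mem hv.2 hw.2⟩
  smul_mem' := fun a v hv => ⟨(power D τ M).smul_mem a hv.1, by
    rw [comb_smul]; exact Submodule.smul_mem _ _ hv.2⟩

theorem mem_sp_pi {σ : Type u} (J : Ideal (MvPolynomial σ D.A)) (hJ : InvI (poly D σ) J) {κ : Type} [Fintype κ]
    {y : κ → MvPolynomial σ D.A} (hy : y ∈ Submodule.pi Set.univ fun _ : κ => (J : Submodule _ _)) :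
    MvPolynomial.map D.s ∘ y ∈ sp (poly D σ) (Submodule.pi Set.univ fun _ : κ => (J : Submodule _ _)) :=
  mem_ext_pi _ J fun k => hJ (hy k trivial)

theorem inv_coverSp {σ : Type u} (J : Ideal (MvPolynomial σ D.A)) (hJ : InvI (poly D σ) J) (c : Ideal D.A)
    (hc : InvI D c) {κ : Type} [Fintype κ] (M : Submodule D.A (κ → D.A)) (hM : Inv D M) :
    Inv (poly D σ) (coverSp J c M) := by
  let Jn : Submodule (MvPolynomial σ D.A) (κ → MvPolynomial σ D.A) :=
    Submodule.pi Set.univ fun _ : κ => (J : Submodule _ _)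
  let P₂ := coverSp J c M
  have hJn : ∀ y ∈ Jn, MvPolynomial.map D.s ∘ y ∈ sp (poly D σ) Jn := fun y hy => mem_sp_pi J hJ hy
  show Inv (poly D σ) P₂
  intro y hy
  obtain ⟨y₁, h₁, y₂, h₂, rfl⟩ := Submodule.mem_sup.1 hy
  show MvPolynomial.map D.s ∘ (y₁ + y₂) ∈ sp (poly D σ) P₂
  rw [show MvPolynomial.map D.s ∘ (y₁ + y₂) = MvPolynomial.map D.s ∘ y₁ + MvPolynomial.map D.s ∘ y₂ from
    funext fun k => map_add _ _ _]
  refine add_mem ?_ (ext_mono _ le_sup_right (hJn y₂ h₂))
  clear hy h₂
  induction h₁ using Submodule.span_induction with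
  | mem y hy =>
    obtain ⟨a, ha, n, hn, rfl⟩ := hy
    let P' : Submodule D.A (κ → MvPolynomial σ D.A) := P₂.restrictScalars D.A
    have key : ∀ x ∈ c.map D.t, ∀ v ∈ sp D M,
        (fun j => MvPolynomial.C x * MvPolynomial.C (v j)) ∈ sp (poly D σ) P₂ := by
      intro x hx v hv
      have h := smul_mem_ext D.t (c := c) (N := M) (N' := c • M)
        (fun b hb n hn => Submodule.smul_mem_smul hb hn) hx hv
      rw [show (fun j => MvPolynomial.C x * MvPolynomial.C (v j)) =
        MvPolynomial.C ∘ (x • v) from funext fun j => (map_mul _ _ _).symm]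
      generalize x • v = w at h
      induction h using Submodule.span_induction with
      | mem w hw =>
        obtain ⟨n, hn, rfl⟩ := hw
        rw [show (MvPolynomial.C ∘ (D.t ∘ n) : κ → MvPolynomial σ D.B) =
          MvPolynomial.map D.t ∘ (MvPolynomial.C ∘ n) from funext fun j => (MvPolynomial.map_C _ _).symm]
        refine comp_mem_ext _ (Submodule.mem_sup_left ?_)
        refine Submodule.smul_induction_on hn (fun b hb n hn => Submodule.subset_span ⟨b, hb, n, hn,
          funext fun j => map_mul _ _ _⟩) fun p q hp hq => ?_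
        rw [show (MvPolynomial.C ∘ (p + q) : κ → MvPolynomial σ D.A) = MvPolynomial.C ∘ p + MvPolynomial.C ∘ q from
          funext fun j => map_add _ _ _]
        exact add_mem hp hq
      | zero =>
        rw [show (MvPolynomial.C ∘ (0 : κ → D.B) : κ → MvPolynomial σ D.B) = 0 from funext fun j => map_zero _]
        exact zero_mem _
      | add p q _ _ hp hq =>
        rw [show (MvPolynomial.C ∘ (p + q) : κ → MvPolynomial σ D.B) = MvPolynomial.C ∘ p + MvPolynomial.C ∘ q from
          funext fun j => map_add _ _ _]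
        exact add_mem hp hq
      | smul b p _ hp =>
        rw [show (MvPolynomial.C ∘ (b • p) : κ → MvPolynomial σ D.B) =
          (MvPolynomial.C b : MvPolynomial σ D.B) • (MvPolynomial.C ∘ p) from funext fun j => map_mul _ _ _]
        exact Submodule.smul_mem _ _ hp
    rw [show MvPolynomial.map D.s ∘ (fun j => MvPolynomial.C a * MvPolynomial.C (n j)) =
      fun j => MvPolynomial.C (D.s a) * MvPolynomial.C ((D.s ∘ n) j) from funext fun j => by simp]
    exact key _ (hc ha) _ (hM n hn)
  | zero =>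
    rw [show MvPolynomial.map D.s ∘ (0 : κ → MvPolynomial σ D.A) = 0 from funext fun k => map_zero _]
    exact zero_mem _
  | add x y _ _ hx hy =>
    rw [show MvPolynomial.map D.s ∘ (x + y) = MvPolynomial.map D.s ∘ x + MvPolynomial.map D.s ∘ y from
      funext fun k => map_add _ _ _]
    exact add_mem hx hy
  | smul b x _ hx =>
    rw [show MvPolynomial.map D.s ∘ (b • x) = MvPolynomial.map D.s b • (MvPolynomial.map D.s ∘ x) from
      funext fun k => map_mul _ _ _]
    exact Submodule.smul_mem _ _ hx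

theorem comb_apply {σ : Type u} {τ κ : Type} [Fintype τ] {R : Type u} [CommRing R] (m : τ → σ →₀ ℕ) (v : τ × κ → R)
    (j : κ) : comb m v j = ∑ k, MvPolynomial.C (v (k, j)) * MvPolynomial.monomial (m k) 1 := by
  simp [comb, MvPolynomial.C_mul_monomial]

theorem exists_coverLift {σ : Type u} (J : Ideal (MvPolynomial σ D.A)) (c : Ideal D.A) {τ κ : Type} [Fintype τ]
    (mT : τ → σ →₀ ℕ) (hcL : ∀ a ∈ c, ∀ p, ∃ w : τ → D.A,
      MvPolynomial.C a * p - ∑ k, MvPolynomial.C (w k) * MvPolynomial.monomial (mT k) 1 ∈ J)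
    (M : Submodule D.A (κ → D.A)) {y : κ → MvPolynomial σ D.A} (hy : y ∈ coverSp J c M) :
    ∃ v ∈ coverLift J c mT M, comb mT v - y ∈ Submodule.pi Set.univ fun _ : κ => (J : Submodule _ _) := by
  let Jn : Submodule (MvPolynomial σ D.A) (κ → MvPolynomial σ D.A) :=
    Submodule.pi Set.univ fun _ : κ => (J : Submodule _ _)
  let N₁ := coverLift J c mT M
  obtain ⟨y₁, h₁, y₂, h₂, rfl⟩ := Submodule.mem_sup.1 hy
  suffices ∀ p : MvPolynomial σ D.A, ∃ v ∈ N₁, comb mT v - p • y₁ ∈ Jn by
    obtain ⟨v, hv, hv'⟩ := this 1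
    rw [one_smul] at hv'
    exact ⟨v, hv, by rw [sub_add_eq_sub_sub]; exact sub_mem hv' h₂⟩
  clear hy
  induction h₁ using Submodule.span_induction with
  | mem y hy =>
    obtain ⟨a, ha, n, hn, rfl⟩ := hy
    intro p
    obtain ⟨w, hw⟩ := hcL a ha p
    let v : τ × κ → D.A := fun x => w x.1 * n x.2
    have hv : comb mT v - p • (fun j => MvPolynomial.C a * MvPolynomial.C (n j)) ∈ Jn := fun j _ => by
      show comb mT v j - p * (MvPolynomial.C a * MvPolynomial.C (n j)) ∈ J
      rw [comb_apply, show ∑ k, MvPolynomial.C (v (k, j)) * MvPolynomial.monomial (mT k) 1 -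
          p * (MvPolynomial.C a * MvPolynomial.C (n j)) =
        -((MvPolynomial.C a * p - ∑ k, MvPolynomial.C (w k) * MvPolynomial.monomial (mT k) 1) *
          MvPolynomial.C (n j)) by
        simp only [v, map_mul, sub_mul, Finset.sum_mul]
        rw [neg_sub, show p * (MvPolynomial.C a * MvPolynomial.C (n j)) =
          MvPolynomial.C a * p * MvPolynomial.C (n j) by ring]
        exact congrArg (· - _) (Finset.sum_congr rfl fun k _ => by ring)]
      exact neg_mem (Ideal.mul_mem_right _ _ hw)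
    refine ⟨v, ⟨fun k => ?_, ?_⟩, hv⟩
    · exact M.smul_mem (w k) hn
    · rw [← sub_add_cancel (comb mT v) (p • fun j => MvPolynomial.C a * MvPolynomial.C (n j))]
      exact add_mem (Submodule.mem_sup_right hv)
        (Submodule.mem_sup_left (Submodule.smul_mem _ _ (Submodule.subset_span ⟨a, ha, n, hn, rfl⟩)))
  | zero => intro p; exact ⟨0, zero_mem _, by rw [comb_zero, smul_zero, sub_zero]; exact zero_mem _⟩
  | add x y _ _ hx hy =>
    intro p
    obtain ⟨v, hv, hv'⟩ := hx p
    obtain ⟨w, hw, hw'⟩ := hy p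
    exact ⟨v + w, add_mem hv hw, by rw [comb_add, smul_add, add_sub_add_comm]; exact add_mem hv' hw'⟩
  | smul b x _ hx => intro p; rw [smul_smul]; exact hx _

set_option maxHeartbeats 1000000 in
/-- A relation which is a quotient modulo every nonzero invariant ideal and has a finite surjective cover
with trivial action on the fibre coordinates which is a quotient, is a quotient. -/
theorem isQuot_of_min (hD : Good D) (σ : Type u) (J : Ideal (MvPolynomial σ D.A)) (hJ : InvI (poly D σ) J)
    (hfin : ((Ideal.Quotient.mk J).comp (MvPolynomial.C (σ := σ))).Finite)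
    (hsurj : Function.Surjective (PrimeSpectrum.comap ((Ideal.Quotient.mk J).comp (MvPolynomial.C (σ := σ)))))
    (hQ : ((poly D σ).quot J hJ).IsQuot)
    (hmin : ∀ (I : Ideal D.A) (hI : InvI D I), I ≠ ⊥ → (D.quot I hI).IsQuot) : D.IsQuot := by
  classical
  by_contra hnot
  have hred : nilradical D.A = ⊥ := by
    by_contra h
    exact hnot (isQuot_of_nilradical hD (hmin _ _ h))
  have hprod : ∀ a b : Ideal D.A, InvI D a → InvI D b → a ≠ ⊥ → b ≠ ⊥ → a * b ≠ ⊥ := fun a b ha hb ha' hb' h =>
    hnot (isQuot_of_mul_eq_bot hD ha hb (hmin a ha ha') (hmin b hb hb') h)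
  have hnt : Nontrivial D.A := by
    by_contra h
    have := not_nontrivial_iff_subsingleton.1 h
    refine hnot (isQuot_of_ac hD fun κ _ M _ z hz _ => ⟨0, zero_mem _, ?_⟩)
    have : Subsingleton D.B := subsingleton_of_zero_eq_one <| by
      rw [← map_one D.t, ← map_zero D.t, Subsingleton.elim (0 : D.A) 1]
    rw [Subsingleton.elim (z - cob D 0) 0]
    exact zero_mem _
  have hinj : ∀ a : D.A, MvPolynomial.C a ∈ J → a = 0 := fun a ha => by
    rw [← Ideal.mem_bot, ← hred, nilradical_eq_sInf, Ideal.mem_sInf]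
    intro P hP
    obtain ⟨P', hP'⟩ := hsurj ⟨P, hP⟩
    have : a ∈ (PrimeSpectrum.comap ((Ideal.Quotient.mk J).comp MvPolynomial.C) P').asIdeal := by
      show Ideal.Quotient.mk J (MvPolynomial.C a) ∈ P'.asIdeal
      rw [Ideal.Quotient.eq_zero_iff_mem.2 ha]
      exact zero_mem _
    rwa [hP'] at this
  obtain ⟨τ, _, mT, k₀, c, hc, hc0, hT, hcL⟩ := exists_family σ J hJ hfin hinj hprod
  refine hnot (isQuot_of_ac hD fun κ _ M hM z hz hzc => ?_)
  have hzc0 : coc D z = 0 := by rwa [spC, ext_bot, Submodule.mem_bot] at hzc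
  let Mr := power D τ M
  let Jn : Submodule (MvPolynomial σ D.A) (κ → MvPolynomial σ D.A) :=
    Submodule.pi Set.univ fun _ : κ => (J : Submodule _ _)
  let P₂ := coverSp J c M
  let N₁ := coverLift J c mT M
  have hP₂ : Inv (poly D σ) P₂ := inv_coverSp J hJ c hc M hM
  have hMr : Inv D Mr := Inv.power hM
  -- acyclicity
  have hac₁ : Ac D ⊥ N₁ := fun z hz hzc => by
    rw [spC, ext_bot, Submodule.mem_bot] at hzc
    obtain ⟨y, hy, hy'⟩ := ac_of_isQuot (hD.poly σ) J hJ hQ Jn P₂ hP₂
      (fun a ha n _ k _ => Ideal.mul_mem_right _ _ ha) (comb mT z)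
      (comb_mem_ext D.t mT (fun v hv => (show v ∈ power D τ M ∧ comb mT v ∈ coverSp J c M from hv).2) hz) (by rw [comb_coc, hzc, comb_zero]; exact zero_mem _)
    obtain ⟨v, hv, hvy⟩ := exists_coverLift J c mT hcL M hy
    refine ⟨v, hv, ?_⟩
    have h : comb mT (z - cob D v) ∈ sp (poly D σ) Jn := by
      rw [comb_sub, ← comb_cob, show comb mT z - cob (poly D σ) (comb mT v) =
        (comb mT z - cob (poly D σ) y) - cob (poly D σ) (comb mT v - y) by rw [cob_sub]; abel]
      exact sub_mem hy' (sub_mem (comp_mem_ext _ hvy) (mem_sp_pi J hJ hvy))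
    suffices z - cob D v = 0 by rw [this]; exact zero_mem _
    funext x
    obtain ⟨k, j⟩ := x
    have h1 : (fun k : τ => (z - cob D v) (k, j)) ∈ ext D.t (relSp J fun k : τ => MvPolynomial.monomial (mT k) (1 : D.A)) := by
      refine mem_ext_relSp D.t D.flat_t J _ _ ?_
      have := apply_mem_of_mem_ext_pi _ h j
      rw [comb_apply] at this
      simpa [MvPolynomial.map_monomial] using this
    rw [hT, ext_bot, Submodule.mem_bot] at h1
    exact congrFun h1 k
  have hac₂ : Ac D N₁ Mr := ac_of_isQuot hD c hc (hmin c hc hc0) N₁ Mr hMr fun a ha v hv => ⟨Mr.smul_mem a hv, by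
    rw [show comb mT (a • v) = ∑ k : τ, MvPolynomial.monomial (mT k) (1 : D.A) •
        (fun j => MvPolynomial.C a * MvPolynomial.C (v (k, j))) from funext fun j => by
      rw [comb_apply, Finset.sum_apply]
      refine Finset.sum_congr rfl fun k _ => ?_
      show MvPolynomial.C (a * v (k, j)) * _ = _
      rw [map_mul, mul_comm]
      rfl]
    exact Submodule.sum_mem _ fun k _ =>
      Submodule.mem_sup_left (Submodule.smul_mem _ _ (Submodule.subset_span ⟨a, ha, _, hv k, rfl⟩))⟩
  obtain ⟨v, hv, hv'⟩ := Ac.trans bot_le (fun x hx => (show x ∈ power D τ M ∧ comb mT x ∈ coverSp J c M from hx).1) hac₁ hac₂ (row k₀ z)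
    (row_mem_ext D.t k₀ (fun n hn k => by
      by_cases h : k = k₀
      · simpa [row, h] using hn
      · simp only [row, h, if_false]
        exact zero_mem M) hz)
    (by
      rw [spC, ext_bot, Submodule.mem_bot]
      funext x
      obtain ⟨k, j⟩ := x
      by_cases h : k = k₀
      · simpa [coc, row, h] using congrFun hzc0 j
      · simp [coc, row, h])
  refine ⟨fun j => v (k₀, j), hv k₀, ?_⟩
  rw [sp, ext_bot, Submodule.mem_bot] at hv' ⊢
  funext j
  simpa [row, cob] using congrFun hv' (k₀, j)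

end Groth.Agent.ChevSp
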