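import Groth.Agent.AlgSpLib.ThickScheme
import Groth.Agent.ChevSp.Basic

/-!
# An algebraic space presented by an affine relation which is a quotient is affine
-/

set_option backward.isDefEq.respectTransparency false
set_option backward.isDefEq.respectTransparency.types false

universe u

open CategoryTheory CategoryTheory.Limits AlgebraicGeometry Opposite AlgSp MorphismProperty

namespace Groth.Agent.ChevSp

open Groth.Agent.AlgSpLib Groth.Agent.GrpdThick

variable {S : Scheme.{u}} {Y : Sp S} {R U : Over S} {s t : R ⟶ U} {a : (yon S).obj U ⟶ Y}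

/-- An algebraic space whose relation on an affine chart is a quotient is affine. -/
theorem exists_affine_of_isQuot (he : RepWith @Etale a) (hs : RepWith @Surjective a)
    (sq : IsPullback ((yon S).map t) ((yon S).map s) a a) [IsAffine (pairGroupoid sq).U]
    [IsAffine (pairGroupoid sq).R] [Flat (pairGroupoid sq).t] (hQ : (relOf (pairGroupoid sq)).IsQuot) :
    ∃ Q : Over S, IsAffine Q.left ∧ Nonempty ((yon S).obj Q ≅ Y) := by
  have hte : Etale t.left := he.property a _ _ sq.flip
  let G := pairGroupoid sq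
  let D := relOf G
  obtain ⟨hflat, hsurj, hpo⟩ := hQ
  let q : G.U ⟶ Spec (CommRingCat.of (D.s.eqLocus D.t)) :=
    G.U.isoSpec.hom ≫ Spec.map (CommRingCat.ofHom (D.s.eqLocus D.t).subtype)
  have : Surjective (Spec.map (CommRingCat.ofHom (D.s.eqLocus D.t).subtype)) := ⟨hsurj⟩
  have : Flat (Spec.map (CommRingCat.ofHom (D.s.eqLocus D.t).subtype)) :=
    (HasRingHomProperty.Spec_iff (P := @Flat)).2 hflat
  have hnat : ∀ f : G.R ⟶ G.U, G.R.isoSpec.hom ≫ Spec.map f.appTop = f ≫ G.U.isoSpec.hom := fun f => by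
    simp only [Scheme.isoSpec_hom, Scheme.toSpecΓ_naturality]
  have hsqY : IsPullback t.left s.left q q :=
    (isPullback_SpecMap_of_isPushout _ _ _ _ hpo).of_iso G.R.isoSpec.symm G.U.isoSpec.symm G.U.isoSpec.symm
      (Iso.refl _)
      (by rw [Iso.symm_hom, Iso.symm_hom, Iso.eq_inv_comp, ← Category.assoc, Iso.comp_inv_eq]; exact hnat G.t)
      (by rw [Iso.symm_hom, Iso.symm_hom, Iso.eq_inv_comp, ← Category.assoc, Iso.comp_inv_eq]; exact hnat G.s)
      (by simp [q]; rfl) (by simp [q]; rfl)
  have : IsAffine U.left := ‹IsAffine (pairGroupoid sq).U›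
  have hqe : Etale q :=
    of_isPullback_of_descendsAlong (P := @Etale) (Q := @Surjective ⊓ @Flat ⊓ @QuasiCompact)
      hsqY ⟨⟨inferInstance, inferInstance⟩, inferInstance⟩ hte
  have hqs : Surjective q := inferInstance
  have hd : ∀ {Z : Scheme.{u}} (g₁ g₂ : Z ⟶ U.left), g₁ ≫ q = g₂ ≫ q → g₁ ≫ U.hom = g₂ ≫ U.hom := by
    intro Z g₁ g₂ h
    have hp : hsqY.lift g₁ g₂ h ≫ t.left = g₁ := hsqY.lift_fst _ _ _
    have hp' : hsqY.lift g₁ g₂ h ≫ s.left = g₂ := hsqY.lift_snd _ _ _
    conv_lhs => rw [← hp]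
    conv_rhs => rw [← hp']
    rw [Category.assoc, Category.assoc, CategoryTheory.Over.w, CategoryTheory.Over.w]
  have : EffectiveEpi q := inferInstance
  let Q : Over S := Over.mk (EffectiveEpi.desc q U.hom hd)
  let qo : U ⟶ Q := CategoryTheory.Over.homMk q (EffectiveEpi.fac q U.hom hd)
  refine ⟨Q, (inferInstance : IsAffine (Spec (CommRingCat.of (D.s.eqLocus D.t)))), ?_⟩
  have hk : IsPullback ((yon S).map t) ((yon S).map s) ((yon S).map qo) ((yon S).map qo) :=
    (IsPullback.of_map (Over.forget S) (f := t) (g := s) (h := qo) (i := qo)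
      (Over.OverMorphism.ext hsqY.w) hsqY).map (yon S)
  have hqe' : RepWith @Etale ((yon S).map qo) := (repWith_yon_map_iff _ qo).2 hqe
  have hqs' : RepWith @Surjective ((yon S).map qo) := (repWith_yon_map_iff _ qo).2 hqs
  have : Epi ((yon S).map qo) := epi_of_etale_surjective hqe' hqs'
  have : Epi a := epi_of_etale_surjective he hs
  have hc : IsRegularEpiCategory (CategoryTheory.Sheaf (AlgSp.J S) (Type (u + 1))) := inferInstance
  have : IsRegularEpi ((yon S).map qo) := hc.regularEpiOfEpi _
  have : IsRegularEpi a := hc.regularEpiOfEpi _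
  exact ⟨(IsKernelPair.toCoequalizer' (hk : IsKernelPair ((yon S).map qo) _ _)).coconePointUniqueUpToIso
    (IsKernelPair.toCoequalizer' (sq : IsKernelPair a _ _))⟩

end Groth.Agent.ChevSp
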